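import Groth.Agent.Elliptic.Divisor
import Groth.Agent.FComplLib.IdealComap
import Groth.Agent.CurveEmbed.Points
import Groth.Agent.H23.PicInv
import Groth.Agent.S15990

/-!
# The Abel map of a family of curves of genus one
-/

set_option autoImplicit false
set_option linter.style.haveILetI false
set_option linter.unusedSectionVars false
set_option backward.isDefEq.respectTransparency false
set_option backward.isDefEq.respectTransparency.types false

universe u

open CategoryTheory CategoryTheory.Limits AlgebraicGeometry TopologicalSpace Opposite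

noncomputable section

namespace Groth.Agent.Elliptic

open Groth.Agent InvX
open scoped Groth.Agent.H23.PicMul

variable {E S : Scheme.{u}} {f : E ⟶ S} {J : E.Modules}

/-- A function vanishing at a point pulls back to zero on the fibre. -/
theorem fiberι_app_eq_zero {U : S.Opens} (c : Γ(S, U)) {s : S} (hs : s ∉ S.basicOpen c) :
    (f.fiberι s).app (f ⁻¹ᵁ U) (f.app U c) = 0 := by
  have h0 : (S.fromSpecResidueField s).app U c = 0 := by
    rw [← basicOpen_eq_bot_iff, ← Scheme.preimage_basicOpen]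
    refine bot_unique fun z hz => hs ?_
    have : S.fromSpecResidueField s z ∈ S.basicOpen c := hz
    rwa [Scheme.fromSpecResidueField_apply] at this
  have w : f.fiberι s ≫ f = f.fiberToSpecResidueField s ≫ S.fromSpecResidueField s := pullback.condition
  have h1 := ConcreteCategory.congr_hom (Scheme.Hom.congr_app w U) c
  rw [Scheme.Hom.comp_app, Scheme.Hom.comp_app] at h1
  refine h1.trans ?_
  simp only [CommRingCat.comp_apply]
  rw [h0, map_zero, map_zero]

theorem fibre_preimage {U : S.Opens} {s : S} (hs : s ∈ U) : f.fiberι s ⁻¹ᵁ f ⁻¹ᵁ U = ⊤ := by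
  refine top_le_iff.1 fun y _ => ?_
  show f (f.fiberι s y) ∈ U
  have : f.fiberι s y ∈ Set.range (f.fiberι s) := ⟨y, rfl⟩
  rw [Scheme.Hom.range_fiberι] at this
  rwa [show f (f.fiberι s y) = s from this]

theorem fibNonzero_res {t : Γ(J, ⊤)} (ht : FibNonzero f (J := J) (U := ⊤) t) (U : S.Opens) :
    FibNonzero f (J := J) (U := U) (AModX.res J (le_top : f ⁻¹ᵁ U ≤ ⊤) t) := by
  intro s hs h0
  refine ht s trivial ?_
  refine AModX.eq_of_locally (M := (Scheme.Modules.pullback (f.fiberι s)).obj J) _ _ fun y _ =>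
      ⟨f.fiberι s ⁻¹ᵁ f ⁻¹ᵁ U, le_top, (fibre_preimage hs).ge trivial, ?_⟩
  rw [map_zero]
  exact (res_pullElt (f.fiberι s) (le_top : f ⁻¹ᵁ U ≤ ⊤) t).trans h0

/-- A fibrewise nonzero section is a unit multiple of a frame of the direct image. -/
theorem exists_unit_coord {U : S.Opens} {m : Γ((Scheme.Modules.pushforward f).obj J, U)}
    (hm : IsFrame m) {t : Γ(J, f ⁻¹ᵁ U)} (ht : FibNonzero f (J := J) (U := U) t) :
    ∃ c : Γ(S, U), IsUnit c ∧ t = f.app U c • (show Γ(J, f ⁻¹ᵁ U) from m) := by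
  obtain ⟨c, hc⟩ := hm.exists_coord le_rfl (show Γ((Scheme.Modules.pushforward f).obj J, U) from t)
  rw [AModX.res_self] at hc
  have hc' : t = f.app U c • (show Γ(J, f ⁻¹ᵁ U) from m) := hc
  refine ⟨c, ?_, hc'⟩
  have hall : S.basicOpen c = U := by
    refine le_antisymm (S.basicOpen_le c) fun s hs => ?_
    by_contra hn
    refine ht s hs ?_
    rw [hc', H23.EndInv.pullElt_smul, fiberι_app_eq_zero c hn, zero_smul]
  refine S.toRingedSpace.isUnit_of_isUnit_germ U c fun s hs => ?_
  exact (S.mem_basicOpen c s hs).1 (hall.ge hs)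

/-- Tensoring with a frame from the base keeps sections fibrewise nonzero. -/
theorem fibNonzero_tmul (hJ : PicF.IsInvertible J) {U : S.Opens} {m : Γ(J, f ⁻¹ᵁ U)}
    (hm : FibNonzero f (J := J) (U := U) m) {N : S.Modules} {n : Γ(N, U)} (hn : IsFrame n) :
    FibNonzero f (J := CohB1.tensorMod J ((Scheme.Modules.pullback f).obj N)) (U := U)
      (tmul m (pullElt f n)) := by
  intro s hs h0
  refine hm s hs (AModX.eq_of_locally (M := (Scheme.Modules.pullback (f.fiberι s)).obj J) _ _ fun y hy => ?_)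
  obtain ⟨W, hyW, hWU, e, he⟩ := exists_affine_frame hJ (show f.fiberι s y ∈ f ⁻¹ᵁ U from hy)
  obtain ⟨g, hg⟩ := he.exists_coord le_rfl (AModX.res J hWU m)
  rw [AModX.res_self] at hg
  have he' : IsFrame (tmul e (AModX.res _ hWU (pullElt f n))) :=
    InvX.isFrame_tmul he ((isFrame_pullElt f hn).res _)
  have h1 : (f.fiberι s).app W.1 g • pullElt (f.fiberι s) (tmul e (AModX.res _ hWU (pullElt f n))) = 0 := by
    rw [← H23.EndInv.pullElt_smul, ← InvX.tmul_smul_left, ← hg, ← InvX.res_tmul]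
    refine (res_pullElt (f.fiberι s) hWU _).symm.trans ?_
    rw [h0, map_zero]
  have h2 : (f.fiberι s).app W.1 g = 0 :=
    (isFrame_pullElt (f.fiberι s) he').coord_unique le_rfl (by rw [AModX.res_self, zero_smul]; exact h1)
  refine ⟨f.fiberι s ⁻¹ᵁ W.1, (f.fiberι s).preimage_mono hWU, hyW, ?_⟩
  rw [map_zero]
  refine (res_pullElt (f.fiberι s) hWU m).trans ?_
  rw [hg, H23.EndInv.pullElt_smul, h2, zero_smul]

/-- A one-point scheme has only the trivial invertible module. -/
theorem triv_of_subsingleton {X : Scheme.{u}} [Subsingleton X] [Nonempty X] {L : X.Modules}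
    (hL : PicF.IsInvertible L) : H23.TrivBasic.Triv L := by
  obtain ⟨x⟩ := ‹Nonempty X›
  obtain ⟨U, hxU, e, he⟩ := InvX.exists_frame hL x
  obtain rfl : U = ⊤ := top_le_iff.1 fun y _ => Subsingleton.elim x y ▸ hxU
  exact H23.TrivBasic.triv_of_frame he

theorem pullCl_fibre {N : S.Modules} (hN : PicF.IsInvertible N) (s : S) :
    PicF.pullCl (f.fiberι s) (PicF.cl ((Scheme.Modules.pullback f).obj N)) = 1 := by
  haveI : Subsingleton ↥(Spec (S.residueField s)) :=
    inferInstanceAs (Subsingleton (PrimeSpectrum (S.residueField s)))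
  haveI : Nonempty ↥(Spec (S.residueField s)) :=
    inferInstanceAs (Nonempty (PrimeSpectrum (S.residueField s)))
  have h : H23.TrivBasic.Triv ((Scheme.Modules.pullback (f.fiberι s ≫ f)).obj N) := by
    have w : f.fiberι s ≫ f = f.fiberToSpecResidueField s ≫ S.fromSpecResidueField s := pullback.condition
    rw [H23.TrivBasic.triv_congr w, ← H23.TrivBasic.triv_comp_iff]
    exact (triv_of_subsingleton (PicClLib.isInvertible_pullback _ hN)).pullback _
  rw [← H23.TrivBasic.triv_comp_iff] at h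
  rw [H23.PicMul.one_def]
  exact H23.PicMul.cl_eq_iff.2 h

/-- Twisting by the base does not change the fibres. -/
theorem DegOne.twist (hJ : DegOne f J) {N : S.Modules} (hN : PicF.IsInvertible N) :
    DegOne f (CohB1.tensorMod J ((Scheme.Modules.pullback f).obj N)) := by
  refine ⟨InvX.isInvertible_tensorMod hJ.1 (PicClLib.isInvertible_pullback f hN), fun s => ?_⟩
  have h : PicF.cl ((Scheme.Modules.pullback (f.fiberι s)).obj
      (CohB1.tensorMod J ((Scheme.Modules.pullback f).obj N))) =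
      PicF.cl ((Scheme.Modules.pullback (f.fiberι s)).obj J) := by
    show PicF.pullCl (f.fiberι s) (PicF.cl (CohB1.tensorMod J ((Scheme.Modules.pullback f).obj N))) = _
    rw [H23.PicMul.cl_tensor, H23.PicMul.pullCl_mul, pullCl_fibre hN, mul_one]
    rfl
  obtain ⟨e⟩ := H23.PicMul.cl_eq_iff.1 h
  letI := f.fiberOverSpecResidueField s
  exact (Finset.sum_congr rfl fun i _ => by rw [(CurveCohLib.hhEquiv (k := S.residueField s) e i).finrank_eq]).trans (hJ.2 s)

/-- After a twist by the base there is a fibrewise nonzero global section. -/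
theorem exists_twist_section (hJ : DegOne f J) (hf : IsFam f) :
    ∃ N : S.Modules, PicF.IsInvertible N ∧
      ∃ t : Γ(CohB1.tensorMod J ((Scheme.Modules.pullback f).obj N), ⊤),
        FibNonzero f (J := CohB1.tensorMod J ((Scheme.Modules.pullback f).obj N)) (U := ⊤) t := by
  obtain ⟨hM, hfr⟩ := hJ.push hf
  let M := (Scheme.Modules.pushforward f).obj J
  obtain ⟨D, hD, ⟨δ⟩⟩ := H23.PicInv.exists_inverse hM
  let ε : (Scheme.Modules.pullback f).obj M ⟶ J :=
    (Scheme.Modules.pullbackPushforwardAdjunction f).counit.app J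
  let FM := (Scheme.Modules.pullback f).obj M
  let FD := (Scheme.Modules.pullback f).obj D
  let β : H23.TensorDesc.Bilin FM FD (CohB1.tensorMod J FD) :=
    { b := fun U a b => tmul (ε.app U a) b
      add_left := fun U a a' b => by
        rw [map_add]
        exact (congrArg _ (KFlatLib.tm_add_left _ _ _)).trans (map_add _ _ _)
      smul_left := fun U r a b => by rw [Scheme.Modules.Hom.app_smul, InvX.tmul_smul_left]
      add_right := fun U a b b' => (congrArg _ (KFlatLib.tm_add_right _ _ _)).trans (map_add _ _ _)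
      smul_right := fun U r a b => InvX.tmul_smul_right _ _ _
      res := fun {U V} h a b => by
        refine (InvX.res_tmul h _ _).trans ?_
        rw [← AModX.app_res]
        rfl }
  have ψ : CohB1.tensorMod FM FD ≅ Coh.structureModule E :=
    (H23.PicMul.pull f M D).some.symm ≪≫ (Scheme.Modules.pullback f).mapIso δ ≪≫
      (PicClLib.nonempty_pullback_structureModule f).some
  let τ₀ : Γ(CohB1.tensorMod FM FD, ⊤) := ψ.inv.app ⊤ (1 : Γ(E, ⊤))
  have hτ₀ : IsFrame τ₀ := IsFrame.map_iso ψ.symm (InvX.isFrame_one (X := E) ⊤)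
  refine ⟨D, hD, (H23.TensorDesc.desc β).app ⊤ τ₀, fun s _ h0 => ?_⟩
  obtain ⟨U, hsU, m, d, hm, hd⟩ := InvX.exists_frame₂ hM hD s
  have hε : ε.app (f ⁻¹ᵁ U) (pullElt f m) = m := by
    have := (Scheme.Modules.pullbackPushforwardAdjunction f).right_triangle_components J
    exact congr(($this).app U m)
  have hmd : IsFrame (tmul (pullElt f m) (pullElt f d)) :=
    InvX.isFrame_tmul (isFrame_pullElt f hm) (isFrame_pullElt f hd)
  obtain ⟨r, hr⟩ := hmd.exists_coord le_rfl (AModX.res _ (le_top : f ⁻¹ᵁ U ≤ ⊤) τ₀)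
  rw [AModX.res_self] at hr
  have hru : IsUnit r := by
    obtain ⟨q, hq⟩ := (hτ₀.res (le_top : f ⁻¹ᵁ U ≤ ⊤)).exists_coord le_rfl (tmul (pullElt f m) (pullElt f d))
    rw [AModX.res_self] at hq
    refine IsUnit.of_mul_eq_one q (hmd.coord_unique le_rfl ?_)
    rw [AModX.res_self, one_smul, mul_comm, mul_smul, ← hr, ← hq]
  have ht : AModX.res _ (le_top : f ⁻¹ᵁ U ≤ ⊤) ((H23.TensorDesc.desc β).app ⊤ τ₀) =
      r • tmul (show Γ(J, f ⁻¹ᵁ U) from m) (pullElt f d) := by
    rw [← AModX.app_res, hr, Scheme.Modules.Hom.app_smul]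
    refine congrArg (r • ·) ((H23.TensorDesc.desc_tmul β (f ⁻¹ᵁ U) _ _).trans ?_)
    show tmul (ε.app (f ⁻¹ᵁ U) (pullElt f m)) _ = _
    rw [hε]
  refine fibNonzero_tmul hJ.1 (hfr U m hm) hd s hsU ?_
  have h1 : (f.fiberι s).app (f ⁻¹ᵁ U) r • pullElt (f.fiberι s) (tmul (show Γ(J, f ⁻¹ᵁ U) from m) (pullElt f d)) = 0 := by
    rw [← H23.EndInv.pullElt_smul, ← ht]
    refine (res_pullElt (f.fiberι s) (le_top : f ⁻¹ᵁ U ≤ ⊤) _).symm.trans ?_
    rw [h0]
    exact map_zero _
  exact (hru.map ((f.fiberι s).app (f ⁻¹ᵁ U)).hom).smul_eq_zero.1 h1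

/-- In any twist the zero scheme is locally cut out by a frame of the direct image. -/
theorem Z_twist_eq (hJ : DegOne f J) (hf : IsFam f) {N N' : S.Modules} (hN : PicF.IsInvertible N)
    (hN' : PicF.IsInvertible N') {t : Γ(CohB1.tensorMod J ((Scheme.Modules.pullback f).obj N), ⊤)}
    (ht : FibNonzero f (J := CohB1.tensorMod J ((Scheme.Modules.pullback f).obj N)) (U := ⊤) t)
    {t' : Γ(CohB1.tensorMod J ((Scheme.Modules.pullback f).obj N'), ⊤)}
    (ht' : FibNonzero f (J := CohB1.tensorMod J ((Scheme.Modules.pullback f).obj N')) (U := ⊤) t') :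
    Z t = Z t' := by
  obtain ⟨hM, hfr⟩ := hJ.push hf
  refine Z_ext_of_cover fun x => ?_
  obtain ⟨U, hxU, m, hm⟩ := InvX.exists_frame hM (f x)
  obtain ⟨W, hxW, hWU, e, he⟩ := exists_affine_frame hJ.1 (show x ∈ f ⁻¹ᵁ U from hxU)
  obtain ⟨g, hg⟩ := he.exists_coord le_rfl (AModX.res J hWU (show Γ(J, f ⁻¹ᵁ U) from m))
  rw [AModX.res_self] at hg
  have key : ∀ (N : S.Modules) (_ : PicF.IsInvertible N)
      (t : Γ(CohB1.tensorMod J ((Scheme.Modules.pullback f).obj N), ⊤)),
      FibNonzero f (J := CohB1.tensorMod J ((Scheme.Modules.pullback f).obj N)) (U := ⊤) t →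
      ∃ W' : E.affineOpens, x ∈ W'.1 ∧ ∃ h : W'.1 ≤ W.1,
        ∀ (W'' : E.affineOpens) (h' : W''.1 ≤ W'.1),
          (Z t).ideal W'' = Ideal.span {AModX.resR (h'.trans h) g} := by
    intro N hN t ht
    have hJN := hJ.twist hN
    obtain ⟨hM', -⟩ := hJN.push hf
    obtain ⟨V₀, hxV₀, n, m', hn, hm'⟩ := InvX.exists_frame₂ hN hM' (f x)
    let V := U ⊓ V₀
    have hxV : f x ∈ V := ⟨hxU, hxV₀⟩
    let mV := AModX.res ((Scheme.Modules.pushforward f).obj J) (inf_le_left : V ≤ U) m
    let nV := AModX.res N (inf_le_right : V ≤ V₀) n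
    have hm'V := hm'.res (inf_le_right : V ≤ V₀)
    obtain ⟨c, hc, hct⟩ := exists_unit_coord hm'V (fibNonzero_tmul hJ.1 (hfr V mV (hm.res _)) (hn.res _ : IsFrame nV))
    obtain ⟨c', hc', hct'⟩ := exists_unit_coord hm'V (fibNonzero_res ht V)
    obtain ⟨d, rfl⟩ := hc
    have ht2 : AModX.res _ (le_top : f ⁻¹ᵁ V ≤ ⊤) t =
        f.app V (c' * (d⁻¹ : Γ(S, V)ˣ)) • tmul (show Γ(J, f ⁻¹ᵁ V) from mV) (pullElt f nV) := by
      rw [hct, hct', ← mul_smul, ← map_mul, mul_assoc, Units.inv_mul, mul_one]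
    obtain ⟨W', hW', hxW', hW'le⟩ := exists_isAffineOpen_mem_and_subset
      (show x ∈ W.1 ⊓ f ⁻¹ᵁ V from ⟨hxW, hxV⟩)
    refine ⟨⟨W', hW'⟩, hxW', fun y hy => (hW'le hy).1, fun W'' h' => ?_⟩
    have hW : W''.1 ≤ W.1 := fun y hy => (hW'le (h' hy)).1
    have hV : W''.1 ≤ f ⁻¹ᵁ V := fun y hy => (hW'le (h' hy)).2
    have hmW : AModX.res J hV (show Γ(J, f ⁻¹ᵁ V) from mV) = AModX.resR hW g • AModX.res J hW e := by
      have h1 := congrArg (AModX.res J hW) hg
      rw [AModX.res_res, AModX.res_smul] at h1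
      rw [← h1]
      exact AModX.res_res _ _ _
    have h3 := congrArg (AModX.res _ hV) ht2
    rw [AModX.res_res, AModX.res_smul, InvX.res_tmul, hmW, InvX.tmul_smul_left, ← mul_smul] at h3
    rw [ideal_Z (InvX.isInvertible_tensorMod hJ.1 (PicClLib.isInvertible_pullback f hN)) t W''
      (InvX.isFrame_tmul (he.res hW) ((isFrame_pullElt f (hn.res _ : IsFrame nV)).res hV)) h3]
    exact Ideal.span_singleton_mul_left_unit (((hc'.mul d⁻¹.isUnit).map (f.app V).hom).map _) _
  obtain ⟨W₁, hx₁, h₁, k₁⟩ := key N hN t ht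
  obtain ⟨W₂, hx₂, h₂, k₂⟩ := key N' hN' t' ht'
  obtain ⟨W₃, hW₃, hx₃, hle⟩ := exists_isAffineOpen_mem_and_subset (show x ∈ W₁.1 ⊓ W₂.1 from ⟨hx₁, hx₂⟩)
  refine ⟨⟨W₃, hW₃⟩, hx₃, ?_⟩
  rw [k₁ ⟨W₃, hW₃⟩ (fun y hy => (hle hy).1), k₂ ⟨W₃, hW₃⟩ (fun y hy => (hle hy).2)]

/-- The section cut out by a fibrewise nonzero section. -/
theorem exists_section_point (hJ : DegOne f J) (hf : IsFam f) {t : Γ(J, ⊤)}
    (ht : FibNonzero f (J := J) (U := ⊤) t) : ∃ P : S ⟶ E, P ≫ f = 𝟙 S ∧ P.ker = Z t := by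
  haveI := isIso_Z hJ ht hf
  refine ⟨inv ((Z t).subschemeι ≫ f) ≫ (Z t).subschemeι, by rw [Category.assoc, IsIso.inv_hom_id], ?_⟩
  rw [Scheme.Hom.ker_comp_of_isIso, Scheme.IdealSheafData.ker_subschemeι]

/-- The canonical section of the inverse of the ideal of a section does not vanish on a fibre. -/
theorem fibNonzero_of_ker (hf : IsFam f) {P : S ⟶ E} (hP : P ≫ f = 𝟙 S) (hJ : PicF.IsInvertible J)
    {t : Γ(J, ⊤)} (ht : Z t = P.ker) : FibNonzero f (J := J) (U := ⊤) t := by
  intro s _ h0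
  haveI := hf.proper
  letI := f.fiberOverSpecResidueField s
  obtain ⟨_, _, _, hd, _, _, _⟩ := hf.fibre s
  have hbot : (Z t).comap (f.fiberι s) = ⊥ := by
    rw [Z_comap (f.fiberι s) hJ t]
    refine Z_ext_of_cover fun y => ?_
    obtain ⟨U, hyU, -, e, he⟩ := exists_affine_frame (PicClLib.isInvertible_pullback (f.fiberι s) hJ)
      (show y ∈ (⊤ : (f.fiber s).Opens) from trivial)
    refine ⟨U, hyU, ?_⟩
    rw [ideal_Z (PicClLib.isInvertible_pullback (f.fiberι s) hJ) _ U he (g := 0)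
      (by rw [zero_smul]; exact (congrArg _ h0).trans (map_zero _))]
    simp
  rw [ht] at hbot
  have hsub : ∀ y : f.fiber s, f.fiberι s y = P s := fun y => by
    haveI : IsClosedImmersion P := by
      haveI : IsClosedImmersion (P ≫ f) := by rw [hP]; infer_instance
      exact IsClosedImmersion.of_comp P f
    have hy : y ∈ ((P.ker.comap (f.fiberι s)).support : Set (f.fiber s)) := by
      rw [hbot, Scheme.IdealSheafData.support_bot]; trivial
    rw [Scheme.IdealSheafData.support_comap] at hy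
    have hy' : f.fiberι s y ∈ (P.ker.support : Set E) := hy
    rw [Scheme.Hom.support_ker] at hy'
    obtain ⟨w, hw⟩ := P.isClosedEmbedding.isClosed_range.closure_eq.le hy'
    have h2 : f (f.fiberι s y) = s := by
      have : f.fiberι s y ∈ Set.range (f.fiberι s) := ⟨y, rfl⟩
      rw [Scheme.Hom.range_fiberι] at this
      exact this
    have h3 : f (P w) = w := by
      have := congr($(hP) w)
      exact this
    rw [← hw, h3] at h2
    rw [← hw, h2]
  haveI : Subsingleton ↥(f.fiber s) := ⟨fun a b => (f.fiberι s).isEmbedding.injective ((hsub a).trans (hsub b).symm)⟩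
  have h4 := topologicalKrullDim_zero_of_discreteTopology ↥(f.fiber s)
  rw [hd] at h4
  exact absurd h4 (by norm_num)

/-- Degree one modules have a unique section cutting them out up to the base. -/
theorem existsUnique_section (hJ : DegOne f J) (hf : IsFam f) :
    ∃! P : S ⟶ E, P ≫ f = 𝟙 S ∧ ∃ N : S.Modules, PicF.IsInvertible N ∧
      PicF.cl (ClSub.idealMod P.ker) * (PicF.cl J * PicF.pullCl f (PicF.cl N)) = 1 := by
  haveI := hf.proper; haveI := hf.smooth
  obtain ⟨N, hN, t, ht⟩ := exists_twist_section hJ hf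
  have hJ' := hJ.twist hN
  obtain ⟨P, hP, hker⟩ := exists_section_point hJ' hf ht
  have cl_twist : ∀ N : S.Modules, PicF.cl (CohB1.tensorMod J ((Scheme.Modules.pullback f).obj N)) =
      PicF.cl J * PicF.pullCl f (PicF.cl N) := fun N => H23.PicMul.cl_tensor _ _
  refine ⟨P, ⟨hP, N, hN, ?_⟩, ?_⟩
  · rw [hker, ← cl_twist, ← H23.PicMul.cl_tensor, H23.PicMul.one_def, H23.PicMul.cl_eq_iff]
    exact nonempty_iso_of_isRegSec hJ'.1 (isRegSec hJ' ht hf)
  · rintro Q ⟨hQ, N', hN', hQN⟩
    have hQi : PicF.IsInvertible (ClSub.idealMod Q.ker) :=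
      (S8914.result _).2 (S15990.result f Q hQ).1
    -- compare in the same twist
    have hPN : PicF.cl (ClSub.idealMod P.ker) * (PicF.cl J * PicF.pullCl f (PicF.cl N)) = 1 := by
      rw [hker, ← cl_twist, ← H23.PicMul.cl_tensor, H23.PicMul.one_def, H23.PicMul.cl_eq_iff]
      exact nonempty_iso_of_isRegSec hJ'.1 (isRegSec hJ' ht hf)
    have hJ'' := hJ.twist hN'
    rw [← cl_twist, ← H23.PicMul.cl_tensor, H23.PicMul.one_def, H23.PicMul.cl_eq_iff] at hQN
    obtain ⟨φ⟩ := hQN
    obtain ⟨tQ, -, hZQ⟩ := exists_section_of_iso hQi hJ''.1 φ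
    have hQnz := fibNonzero_of_ker hf hQ hJ''.1 hZQ
    -- locally the twists agree
    have hPQ : Q.ker = P.ker := by
      rw [← hZQ, hker]
      exact Z_twist_eq hJ hf hN' hN hQnz ht
    haveI : IsClosedImmersion P := by
      haveI : IsClosedImmersion (P ≫ f) := by rw [hP]; infer_instance
      exact IsClosedImmersion.of_comp P f
    haveI : IsClosedImmersion Q := by
      haveI : IsClosedImmersion (Q ≫ f) := by rw [hQ]; infer_instance
      exact IsClosedImmersion.of_comp Q f
    let a := IsClosedImmersion.lift P Q (by rw [hPQ])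
    have ha : a ≫ P = Q := IsClosedImmersion.lift_fac _ _ _
    have ha1 : a = 𝟙 S := by
      conv_lhs => rw [← Category.comp_id a, ← hP, ← Category.assoc, ha, hQ]
    rw [← ha, ha1, Category.id_comp]

end Groth.Agent.Elliptic
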