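import Groth.Agent.Elliptic.Abel
import Groth.Agent.Lib.CurveDualPrep

/-!
# Degree zero modules and sections
-/

set_option autoImplicit false
set_option linter.style.haveILetI false
set_option linter.unusedSectionVars false
set_option backward.isDefEq.respectTransparency false
set_option backward.isDefEq.respectTransparency.types false

universe u

open CategoryTheory CategoryTheory.Limits AlgebraicGeometry TopologicalSpace Opposite

noncomputable section

attribute [local instance] Curv2.resAlgebra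

namespace Groth.Agent.Elliptic

open Groth.Agent InvX
open scoped Groth.Agent.H23.PicMul

variable {E S : Scheme.{u}} {f : E ⟶ S}

theorem isInvertible_ker (hf : IsFam f) {P : S ⟶ E} (hP : P ≫ f = 𝟙 S) :
    PicF.IsInvertible (ClSub.idealMod P.ker) := by
  haveI := hf.proper; haveI := hf.smooth
  exact (S8914.result _).2 (S15990.result f P hP).1

/-- The inverse of the ideal of a section has degree one. -/
theorem degOne_of_inverse (hf : IsFam f) {P : S ⟶ E} (hP : P ≫ f = 𝟙 S) {D : E.Modules}
    (hD : PicF.IsInvertible D) (φ : CohB1.tensorMod (ClSub.idealMod P.ker) D ≅ Coh.structureModule E) :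
    DegOne f D := by
  haveI := hf.proper; haveI := hf.smooth
  refine ⟨hD, fun s => ?_⟩
  obtain ⟨t, -, hZ⟩ := exists_section_of_iso (isInvertible_ker hf hP) hD φ
  have hnz := fibNonzero_of_ker hf hP hD hZ
  letI := f.fiberOverSpecResidueField s
  obtain ⟨_, _, _, hd, h0, hg, _⟩ := hf.fibre s
  have hDs := PicClLib.isInvertible_pullback (f.fiberι s) hD
  obtain ⟨η⟩ := nonempty_iso_of_isRegSec hDs (isRegSec_of_ne_zero hDs (hnz s trivial))
  rw [← Z_comap (f.fiberι s) hD t, hZ] at η
  -- the restricted section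
  haveI : IsClosedImmersion P := by
    haveI : IsClosedImmersion (P ≫ f) := by rw [hP]; infer_instance
    exact IsClosedImmersion.of_comp P f
  let q := f.fiberToSpecResidueField s
  haveI : IsProper q := inferInstanceAs (IsProper (pullback.snd f (S.fromSpecResidueField s)))
  let Ps : Spec (S.residueField s) ⟶ f.fiber s :=
    pullback.lift (S.fromSpecResidueField s ≫ P) (𝟙 _) (by rw [Category.assoc, hP, Category.comp_id, Category.id_comp])
  have hPs : Ps ≫ q = 𝟙 _ := pullback.lift_snd _ _ _
  haveI : IsClosedImmersion Ps := by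
    haveI : IsClosedImmersion (Ps ≫ q) := by rw [hPs]; infer_instance
    exact IsClosedImmersion.of_comp Ps q
  have hsq : IsPullback Ps (S.fromSpecResidueField s) (f.fiberι s) P := by
    refine IsPullback.of_bot (v₂₁ := q) (v₂₂ := f) (h₃₁ := S.fromSpecResidueField s) ?_ ?_
      (IsPullback.of_hasPullback f (S.fromSpecResidueField s)) |>.flip
    · rw [hPs, hP]
      exact IsPullback.of_vert_isIso ⟨by simp⟩
    · exact (pullback.lift_fst _ _ _).symm
  rw [← FComplLib.ker_of_isPullback hsq] at η
  obtain ⟨z⟩ : Nonempty ↥(Spec (S.residueField s)) :=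
    inferInstanceAs (Nonempty (PrimeSpectrum (S.residueField s)))
  haveI : Subsingleton ↥(Spec (S.residueField s)) :=
    inferInstanceAs (Subsingleton (PrimeSpectrum (S.residueField s)))
  let y := Ps z
  have hy : IsClosed ({y} : Set (f.fiber s)) := by
    have : ({y} : Set (f.fiber s)) = Set.range Ps :=
      Set.ext fun w => ⟨fun h => ⟨z, (Set.mem_singleton_iff.1 h).symm⟩,
        fun ⟨v, hv⟩ => by rw [Set.mem_singleton_iff, ← hv, Subsingleton.elim v z]⟩
    rw [this]
    exact Ps.isClosedEmbedding.isClosed_range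
  have hker : Ps.ker = CurvePoint.ptIdeal y hy := by
    have hsupp : Ps.ker.support = (⟨{y}, hy⟩ : Closeds (f.fiber s)) := by
      refine Closeds.ext ?_
      rw [Scheme.Hom.support_ker]
      show closure (Set.range Ps) = {y}
      have : ({y} : Set (f.fiber s)) = Set.range Ps :=
        Set.ext fun w => ⟨fun h => ⟨z, (Set.mem_singleton_iff.1 h).symm⟩,
          fun ⟨v, hv⟩ => by rw [Set.mem_singleton_iff, ← hv, Subsingleton.elim v z]⟩
      rw [← this]
      exact hy.closure_eq
    haveI : IsReduced (Spec (S.residueField s)) := inferInstance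
    have hrad : Ps.ker.radical = Ps.ker := by
      refine Scheme.IdealSheafData.ext (funext fun U => ?_)
      show (Ps.ker.ideal U).radical = _
      refine le_antisymm (fun a ha => ?_) Ideal.le_radical
      obtain ⟨n, hn⟩ := ha
      rw [Scheme.Hom.ker_apply, RingHom.mem_ker, map_pow] at hn
      rw [Scheme.Hom.ker_apply, RingHom.mem_ker]
      exact IsReduced.eq_zero _ ⟨n, hn⟩
    rw [← hrad, ← Scheme.IdealSheafData.vanishingIdeal_support, hsupp]
  have hr : Module.finrank (S.residueField s) ((f.fiber s).residueField y) = 1 := by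
    refine GenusOnePt.finrank_residue (S.residueField s) ?_
    let j := (f.fiber s).fromSpecResidueField y
    haveI : IsClosedImmersion j :=
      IsClosedImmersion.of_isPreimmersion _ (by rw [Scheme.range_fromSpecResidueField]; exact hy)
    have hjk : Ps.ker = j.ker := hker.trans (ker_fromSpecResidueField y hy).symm
    let e := IsClosedImmersion.lift Ps j hjk.le
    have he : e ≫ Ps = j := IsClosedImmersion.lift_fac _ _ _
    haveI : IsIso e := IsClosedImmersion.isIso_lift Ps j hjk
    have h : Spec.map (CommRingCat.ofHom (Curv2.resMap (S.residueField s) (f.fiber s) y)) = e := by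
      refine (GeomConn5.spec_resMap (k := S.residueField s) (X := f.fiber s) y).symm.trans ?_
      show j ≫ q = e
      rw [← he, Category.assoc, hPs, Category.comp_id]
    have : IsIso (Spec.map (CommRingCat.ofHom (Curv2.resMap (S.residueField s) (f.fiber s) y))) := h ▸ inferInstance
    exact isIso_SpecMap_iff.1 this
  rw [hker] at η
  have hpi := GenusOnePt.isInvertible_pt (S.residueField s) hd hy
  have hdeg := CurveRR.deg_tensor (S.residueField s) hd hpi hDs
  have h1 : Curv2.deg (S.residueField s) (f.fiber s) (CohB1.tensorMod (CurvePoint.ptMod y hy)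
      ((Scheme.Modules.pullback (f.fiberι s)).obj D)) 1 = 0 :=
    (CurveRR.deg_congr (S.residueField s) η 1).trans (CurveDeg.deg_structureModule (k := S.residueField s))
  have h1' : Curv2.deg (S.residueField s) (f.fiber s) ((DCoh.tensorBi.obj (CurvePoint.ptMod y hy)).obj
      ((Scheme.Modules.pullback (f.fiberι s)).obj D)) 1 = 0 := h1
  rw [h1', CurveEmbed.deg_point (S.residueField s) hy, hr] at hdeg
  haveI := CurveCohLib.isNoetherian_of_proper (k := S.residueField s) (X := f.fiber s)
  have e1 := CurveRR.euler_eq_h0_sub_h1 (S.residueField s) hd.le (ProjUPX.isQCoh_of_isInvertible hDs)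
  have e2 := CurveRR.euler_eq_h0_sub_h1 (S.residueField s) hd.le (QCoh.isQCoh_structureModule (X := f.fiber s))
  unfold Curv2.deg at hdeg
  have hg' : Module.finrank (S.residueField s) (Coh.HH (f.fiber s) (Coh.structureModule (f.fiber s)) 1) = 1 := hg
  rw [e1, e2, h0, hg'] at hdeg
  simp only [FGA.eulerCharLE, Finset.sum_range_succ, Finset.sum_range_zero, pow_zero, pow_one, zero_add]
  push_cast at hdeg ⊢
  linarith

/-- Tensoring with a degree zero module keeps the degree. -/
theorem DegOne.tensor (hf : IsFam f) {J L : E.Modules} (hJ : DegOne f J) (hL : PicF.IsInvertible L)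
    (hL0 : ∀ s : S, @FGA.eulerCharLE (S.residueField s) _ (f.fiber s) (f.fiberOverSpecResidueField s)
      ((Scheme.Modules.pullback (f.fiberι s)).obj L) 1 = 0) :
    DegOne f (CohB1.tensorMod L J) := by
  refine ⟨InvX.isInvertible_tensorMod hL hJ.1, fun s => ?_⟩
  letI := f.fiberOverSpecResidueField s
  obtain ⟨_, _, _, hd, h0, hg, _⟩ := hf.fibre s
  haveI := CurveCohLib.isNoetherian_of_proper (k := S.residueField s) (X := f.fiber s)
  have hLs := PicClLib.isInvertible_pullback (f.fiberι s) hL
  have hJs := PicClLib.isInvertible_pullback (f.fiberι s) hJ.1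
  have hTs := PicClLib.isInvertible_pullback (f.fiberι s) (InvX.isInvertible_tensorMod hL hJ.1)
  obtain ⟨e⟩ := H23.PicMul.pull (f.fiberι s) L J
  have e' : (Scheme.Modules.pullback (f.fiberι s)).obj (CohB1.tensorMod L J) ≅
      (DCoh.tensorBi.obj ((Scheme.Modules.pullback (f.fiberι s)).obj L)).obj
        ((Scheme.Modules.pullback (f.fiberι s)).obj J) := e
  have hdeg := (CurveRR.deg_congr (S.residueField s) e' 1).trans (CurveRR.deg_tensor (S.residueField s) hd hLs hJs)
  rw [hJ.deg hf s] at hdeg
  have e1 := CurveRR.euler_eq_h0_sub_h1 (S.residueField s) hd.le (ProjUPX.isQCoh_of_isInvertible hTs)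
  have e2 := CurveRR.euler_eq_h0_sub_h1 (S.residueField s) hd.le (QCoh.isQCoh_structureModule (X := f.fiber s))
  have e3 := CurveRR.euler_eq_h0_sub_h1 (S.residueField s) hd.le (ProjUPX.isQCoh_of_isInvertible hLs)
  have hl := hL0 s
  simp only [FGA.eulerCharLE, Finset.sum_range_succ, Finset.sum_range_zero, pow_zero, pow_one, zero_add] at hl ⊢
  have hg' : Module.finrank (S.residueField s) (Coh.HH (f.fiber s) (Coh.structureModule (f.fiber s)) 1) = 1 := hg
  unfold Curv2.deg at hdeg
  rw [e1, e2, e3, h0, hg'] at hdeg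
  linarith

/-- Degree zero modules are the differences of a section with the origin, up to the base. -/
theorem existsUnique_abel (hf : IsFam f) {σ : S ⟶ E} (hσ : σ ≫ f = 𝟙 S) {L : E.Modules}
    (hL : PicF.IsInvertible L)
    (hL0 : ∀ s : S, @FGA.eulerCharLE (S.residueField s) _ (f.fiber s) (f.fiberOverSpecResidueField s)
      ((Scheme.Modules.pullback (f.fiberι s)).obj L) 1 = 0) :
    ∃! P : S ⟶ E, P ≫ f = 𝟙 S ∧ ∃ M : S.Modules, PicF.IsInvertible M ∧
      Nonempty (CohB1.tensorMod L (ClSub.idealMod P.ker) ≅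
        CohB1.tensorMod (ClSub.idealMod σ.ker) ((Scheme.Modules.pullback f).obj M)) := by
  have hσi := isInvertible_ker hf hσ
  obtain ⟨D, hD, ⟨δ⟩⟩ := H23.PicInv.exists_inverse hσi
  have hJ := (degOne_of_inverse hf hσ hD δ).tensor hf hL hL0
  have hδ : PicF.cl (ClSub.idealMod σ.ker) * PicF.cl D = 1 := by
    rw [← H23.PicMul.cl_tensor, H23.PicMul.one_def, H23.PicMul.cl_eq_iff]; exact ⟨δ⟩
  have hinv : ∀ N : S.Modules, PicF.IsInvertible N → ∃ M : S.Modules, PicF.IsInvertible M ∧
      PicF.pullCl f (PicF.cl N) * PicF.pullCl f (PicF.cl M) = 1 := fun N hN => by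
    obtain ⟨M, hM, ⟨μ⟩⟩ := H23.PicInv.exists_inverse hN
    refine ⟨M, hM, ?_⟩
    rw [← H23.PicMul.pullCl_mul, ← H23.PicMul.cl_tensor, H23.PicMul.cl_eq_iff.2 ⟨μ⟩, ← H23.PicMul.one_def,
      H23.PicMul.pullCl_one]
  obtain ⟨P, ⟨hP, N, hN, hPN⟩, huniq⟩ := existsUnique_section hJ hf
  refine ⟨P, ⟨hP, ?_⟩, ?_⟩
  · obtain ⟨M, hM, hNM⟩ := hinv N hN
    refine ⟨M, hM, H23.PicMul.cl_eq_iff.1 ?_⟩
    rw [H23.PicMul.cl_tensor, H23.PicMul.cl_tensor]
    show _ = PicF.cl (ClSub.idealMod σ.ker) * PicF.pullCl f (PicF.cl M)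
    rw [H23.PicMul.cl_tensor] at hPN
    calc PicF.cl L * PicF.cl (ClSub.idealMod P.ker)
        = PicF.cl L * PicF.cl (ClSub.idealMod P.ker) * (PicF.pullCl f (PicF.cl N) * PicF.pullCl f (PicF.cl M)) *
          (PicF.cl (ClSub.idealMod σ.ker) * PicF.cl D) := by rw [hNM, hδ, mul_one, mul_one]
      _ = PicF.cl (ClSub.idealMod P.ker) * (PicF.cl L * PicF.cl D * PicF.pullCl f (PicF.cl N)) *
          (PicF.cl (ClSub.idealMod σ.ker) * PicF.pullCl f (PicF.cl M)) := by ac_rfl
      _ = PicF.cl (ClSub.idealMod σ.ker) * PicF.pullCl f (PicF.cl M) := by rw [hPN, one_mul]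
  · rintro Q ⟨hQ, M, hM, hQM⟩
    obtain ⟨N', hN', hMN⟩ := hinv M hM
    refine huniq Q ⟨hQ, N', hN', ?_⟩
    have h1 := H23.PicMul.cl_eq_iff.2 hQM
    rw [H23.PicMul.cl_tensor, H23.PicMul.cl_tensor] at h1
    rw [H23.PicMul.cl_tensor]
    calc PicF.cl (ClSub.idealMod Q.ker) * (PicF.cl L * PicF.cl D * PicF.pullCl f (PicF.cl N'))
        = PicF.cl L * PicF.cl (ClSub.idealMod Q.ker) * (PicF.cl D * PicF.pullCl f (PicF.cl N')) := by ac_rfl
      _ = PicF.cl (ClSub.idealMod σ.ker) * PicF.pullCl f (PicF.cl M) * (PicF.cl D * PicF.pullCl f (PicF.cl N')) := by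
          rw [h1]; rfl
      _ = (PicF.cl (ClSub.idealMod σ.ker) * PicF.cl D) * (PicF.pullCl f (PicF.cl M) * PicF.pullCl f (PicF.cl N')) := by
          ac_rfl
      _ = 1 := by rw [hδ, hMN, mul_one]

end Groth.Agent.Elliptic
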