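import Groth.Agent.Elliptic.Fibre
import Groth.Agent.FlatX.FibrePrincipal
import Groth.Agent.S8848
import Groth.Agent.TwistFlat.Main
import Groth.Agent.RelCurveDiv.Scheme
import Mathlib.AlgebraicGeometry.Morphisms.FlatRank
import Mathlib.AlgebraicGeometry.ZariskisMainTheorem

/-!
# The zero scheme of a fibrewise nonzero section of a degree one module is a section
-/

set_option autoImplicit false
set_option linter.style.haveILetI false
set_option linter.unusedSectionVars false
set_option backward.isDefEq.respectTransparency false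
set_option backward.isDefEq.respectTransparency.types false

universe u

open CategoryTheory CategoryTheory.Limits AlgebraicGeometry TopologicalSpace Opposite

noncomputable section

namespace Groth.Agent.Elliptic

open Groth.Agent InvX
open scoped Groth.Agent.H23.PicMul

section General

variable {X : Scheme.{u}} {J : X.Modules}

/-- A nonzero section of an invertible module on an integral scheme is regular. -/
theorem isRegSec_of_ne_zero [IsIntegral X] (hJ : PicF.IsInvertible J) {t : Γ(J, ⊤)} (ht : t ≠ 0) :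
    IsRegSec t := fun x => by
  obtain ⟨U, hxU, -, e, he⟩ := exists_affine_frame hJ (show x ∈ (⊤ : X.Opens) from trivial)
  obtain ⟨g, hg⟩ := he.exists_coord le_rfl (AModX.res J (le_top : U.1 ≤ ⊤) t)
  rw [AModX.res_self] at hg
  refine ⟨U, hxU, e, g, he, hg, ?_⟩
  haveI : Nonempty U.1 := ⟨⟨x, hxU⟩⟩
  refine mem_nonZeroDivisors_of_ne_zero fun hg0 => ?_
  have h1 := H23.TrivBasic.locus_eq_basicOpen he hg
  rw [hg0, Scheme.basicOpen_zero] at h1
  obtain ⟨z, hz⟩ := (Opens.ne_bot_iff_nonempty _).1 (H23.TrivBasic.locus_ne_bot hJ ht)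
  obtain ⟨w, hw⟩ := nonempty_preirreducible_inter (H23.TrivBasic.locus t).isOpen U.1.isOpen ⟨z, hz⟩ ⟨x, hxU⟩
  have : w ∈ H23.TrivBasic.locus t ⊓ U.1 := hw
  rw [h1] at this
  exact this

/-- A one-dimensional space of sections consists of the constant multiples of any nonzero one. -/
theorem exists_const_of_h0 {k : Type u} [Field k] [X.Over (Spec (CommRingCat.of k))]
    (h : Module.finrank k (Coh.HH X J 0) = 1) {t : Γ(J, ⊤)} (ht : t ≠ 0) (t' : Γ(J, ⊤)) :
    ∃ c : k, t' = (show Γ(X, ⊤) from Coh.toGlobal (X ↘ Spec (CommRingCat.of k)) c) • t := by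
  letI := QCoh.secModule (Coh.toGlobal (X ↘ Spec (CommRingCat.of k))) J ⊤
  let e : Coh.HH X J 0 ≃ₗ[k] Γ(J, ⊤) :=
    { (Sheaf.H.equiv₀ (Coh.toAb J) isTerminalTop : Coh.HH X J 0 ≃+ _) with
      map_smul' := fun a t =>
        (Sheaf.H.equiv₀_naturality isTerminalTop
          (Coh.smulAb J (Coh.toGlobal (X ↘ Spec (CommRingCat.of k)) a)) t).symm }
  rw [e.finrank_eq] at h
  obtain ⟨c, hc⟩ := (finrank_eq_one_iff_of_nonzero' t ht).1 h t'
  refine ⟨c, hc.symm.trans ?_⟩
  exact congrArg (· • t) (QCoh.ringMap_id (U := (⊤ : X.Opens)) (homOfLE le_top)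
    (Coh.toGlobal (X ↘ Spec (CommRingCat.of k)) c))

/-- The ideal of a closed point with its reduced structure. -/
theorem ker_fromSpecResidueField (x : X) (hx : IsClosed ({x} : Set X)) :
    (X.fromSpecResidueField x).ker = CurvePoint.ptIdeal x hx := by
  haveI : IsClosedImmersion (X.fromSpecResidueField x) :=
    IsClosedImmersion.of_isPreimmersion _ (by rw [Scheme.range_fromSpecResidueField]; exact hx)
  have hsupp : (X.fromSpecResidueField x).ker.support = (⟨{x}, hx⟩ : Closeds X) := by
    refine Closeds.ext ?_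
    rw [Scheme.Hom.support_ker]
    show closure (Set.range (X.fromSpecResidueField x)) = {x}
    rw [Scheme.range_fromSpecResidueField]
    exact hx.closure_eq
  have hrad : (X.fromSpecResidueField x).ker.radical = (X.fromSpecResidueField x).ker := by
    refine Scheme.IdealSheafData.ext (funext fun U => ?_)
    show ((X.fromSpecResidueField x).ker.ideal U).radical = _
    refine le_antisymm (fun a ha => ?_) Ideal.le_radical
    obtain ⟨n, hn⟩ := ha
    rw [Scheme.Hom.ker_apply, RingHom.mem_ker, map_pow] at hn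
    rw [Scheme.Hom.ker_apply, RingHom.mem_ker]
    exact IsReduced.eq_zero _ ⟨n, hn⟩
  rw [← hrad, ← Scheme.IdealSheafData.vanishingIdeal_support, hsupp]

end General

/-- On a curve of genus one the zero scheme of a section of a degree one module is a rational point. -/
theorem exists_point_Z {k : Type u} [Field k] {X : Scheme.{u}} [X.Over (Spec (CommRingCat.of k))]
    [IsProper (X ↘ Spec (CommRingCat.of k))] [Smooth (X ↘ Spec (CommRingCat.of k))] [IsIntegral X]
    (hd : topologicalKrullDim X = 1) (h0 : Module.finrank k (Coh.HH X (Coh.structureModule X) 0) = 1)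
    (hg : Curv2.genus k X = 1) {J : X.Modules} (hJ : PicF.IsInvertible J) (hdJ : Curv2.deg k X J 1 = 1)
    {t : Γ(J, ⊤)} (ht : t ≠ 0) :
    ∃ (P : X) (hP : IsClosed ({P} : Set X)), Function.Bijective (Curv2.resMap k X P) ∧
      Z t = CurvePoint.ptIdeal P hP := by
  obtain ⟨P, hP, hr, hcl⟩ := GenusOnePt.exists_point k hd h0 hg hJ hdJ
  rw [mul_comm, ← H23.PicMul.cl_tensor, H23.PicMul.one_def, H23.PicMul.cl_eq_iff] at hcl
  obtain ⟨φ⟩ := hcl
  obtain ⟨t', -, hZ⟩ := exists_section_of_iso (GenusOnePt.isInvertible_pt k hd hP) hJ φ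
  refine ⟨P, hP, hr, ?_⟩
  obtain ⟨c, hc⟩ := exists_const_of_h0 (GenusOnePt.h0_deg_one k hd h0 hg hJ hdJ) ht t'
  have hc0 : c ≠ 0 := by
    rintro rfl
    rw [map_zero, zero_smul] at hc
    have hPsupp : P ∈ (CurvePoint.ptIdeal P hP).support := by
      rw [← SetLike.mem_coe, Scheme.IdealSheafData.coe_support_vanishingIdeal]
      exact Set.mem_singleton _
    rw [← hZ] at hPsupp
    have hbot : Z t' = ⊥ := by
      refine Z_ext_of_cover fun x => ?_
      obtain ⟨U, hxU, -, e, he⟩ := exists_affine_frame hJ (show x ∈ (⊤ : X.Opens) from trivial)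
      refine ⟨U, hxU, ?_⟩
      rw [ideal_Z hJ t' U he (g := 0) (by rw [hc, map_zero, zero_smul])]
      simp
    have h1 := congrArg (fun I : X.IdealSheafData => (I.support : Set X)) (hbot.symm.trans hZ)
    simp only [Scheme.IdealSheafData.support_bot] at h1
    rw [Scheme.IdealSheafData.coe_support_vanishingIdeal] at h1
    have h2 : topologicalKrullDim X ≤ 0 := by
      haveI : Subsingleton X := ⟨fun a b =>
        (Set.mem_singleton_iff.1 (h1.le (Set.mem_univ a))).trans
          (Set.mem_singleton_iff.1 (h1.le (Set.mem_univ b))).symm⟩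
      haveI : Nonempty X := ⟨P⟩
      exact topologicalKrullDim_zero_of_discreteTopology X
    rw [hd] at h2
    exact absurd h2 (by norm_num)
  refine (Z_congr hJ fun x => ⟨⊤, trivial, (show Γ(X, ⊤) from Coh.toGlobal (X ↘ Spec (CommRingCat.of k)) c),
    (IsUnit.mk0 c hc0).map (Coh.toGlobal (X ↘ Spec (CommRingCat.of k))), ?_⟩).trans hZ
  rw [AModX.res_self, AModX.res_self]
  exact hc

variable {E S : Scheme.{u}} {f : E ⟶ S} {J : E.Modules} {t : Γ(J, ⊤)}

theorem comap_fiberι (hJ : DegOne f J) (ht : FibNonzero f (J := J) (U := ⊤) t) (hf : IsFam f) (s : S) :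
    letI := f.fiberOverSpecResidueField s
    ∃ (P : f.fiber s) (hP : IsClosed ({P} : Set (f.fiber s))),
      Function.Bijective (Curv2.resMap (S.residueField s) (f.fiber s) P) ∧
        (Z t).comap (f.fiberι s) = CurvePoint.ptIdeal P hP := by
  letI := f.fiberOverSpecResidueField s
  obtain ⟨_, _, _, hd, h0, hg, _⟩ := hf.fibre s
  rw [Z_comap (f.fiberι s) hJ.1 t]
  exact exists_point_Z hd h0 hg (PicClLib.isInvertible_pullback _ hJ.1) (hJ.deg hf s) (ht s trivial)

theorem cartier_flat (hJ : DegOne f J) (ht : FibNonzero f (J := J) (U := ⊤) t) (hf : IsFam f) :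
    BlowUp.IsEffCartierIdeal (Z t) ∧ Flat ((Z t).subschemeι ≫ f) := by
  haveI := hf.proper; haveI := hf.smooth
  haveI : Smooth f := SmoothOfRelativeDimension.smooth 1 f
  refine S8848.result f (Z t) (fun x _ => ?_) fun s => ?_
  · obtain ⟨U, hxU, -, e, he⟩ := exists_affine_frame hJ.1 (show x ∈ (⊤ : E.Opens) from trivial)
    obtain ⟨g, hg⟩ := he.exists_coord le_rfl (AModX.res J (le_top : U.1 ≤ ⊤) t)
    rw [AModX.res_self] at hg
    exact ⟨U, hxU, g, ideal_Z hJ.1 t U he hg⟩
  · obtain ⟨_, _, _, hd, h0, hg, _⟩ := hf.fibre s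
    rw [Z_comap (f.fiberι s) hJ.1 t]
    exact IsRegSec.isEffCartier (PicClLib.isInvertible_pullback _ hJ.1)
      (isRegSec_of_ne_zero (PicClLib.isInvertible_pullback _ hJ.1) (ht s trivial))

theorem isRegSec (hJ : DegOne f J) (ht : FibNonzero f (J := J) (U := ⊤) t) (hf : IsFam f) : IsRegSec t := by
  intro x
  obtain ⟨U, hxU, a, ha, hI⟩ := (cartier_flat hJ ht hf).1 x
  obtain ⟨V, hxV, hVU, e, he⟩ := exists_affine_frame hJ.1 (show x ∈ U.1 from hxU)
  obtain ⟨g, hg⟩ := he.exists_coord le_rfl (AModX.res J (le_top : V.1 ≤ ⊤) t)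
  rw [AModX.res_self] at hg
  obtain ⟨r, r', err, hxr⟩ := exists_basicOpen_le_affine_inter V.2 U.2 x ⟨hxV, hxU⟩
  let W : E.affineOpens := E.affineBasicOpen r
  have hWV : W.1 ≤ V.1 := E.basicOpen_le r
  have hWU : W.1 ≤ U.1 := err.le.trans (E.basicOpen_le r')
  have h1 : (Z t).ideal W = Ideal.span {AModX.resR hWU a} := by
    rw [← (Z t).map_ideal (U := W) (V := U) hWU, hI, Ideal.map_span, Set.image_singleton]
    rfl
  have ha' : AModX.resR hWU a ∈ nonZeroDivisors Γ(E, W.1) := by
    have hW : W = E.affineBasicOpen r' := Subtype.ext err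
    haveI := U.2.isLocalization_basicOpen r'
    have : AModX.resR (E.basicOpen_le r') a ∈ nonZeroDivisors Γ(E, E.basicOpen r') :=
      IsLocalization.map_nonZeroDivisors_le (Submonoid.powers r') Γ(E, E.basicOpen r') ⟨a, ha, rfl⟩
    clear_value W
    subst hW
    exact this
  have hg' : AModX.res J (le_top : W.1 ≤ ⊤) t = AModX.resR hWV g • AModX.res J hWV e := by
    have := congrArg (AModX.res J hWV) hg
    rwa [AModX.res_res, AModX.res_smul] at this
  refine ⟨W, hxr, _, _, he.res hWV, hg', ?_⟩
  rw [ideal_Z hJ.1 t W (he.res hWV) hg'] at h1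
  obtain ⟨d, hd⟩ := Ideal.mem_span_singleton'.1
    (show AModX.resR hWU a ∈ Ideal.span {AModX.resR hWV g} by rw [h1]; exact Ideal.mem_span_singleton_self _)
  rw [← hd] at ha'
  exact (mul_mem_nonZeroDivisors.1 ha').2

/-- The zero scheme maps isomorphically onto the base. -/
theorem isIso_Z (hJ : DegOne f J) (ht : FibNonzero f (J := J) (U := ⊤) t) (hf : IsFam f) :
    IsIso ((Z t).subschemeι ≫ f) := by
  haveI := hf.proper; haveI := hf.smooth
  obtain ⟨hc, hfl⟩ := cartier_flat hJ ht hf
  haveI := hfl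
  obtain ⟨hqf, hfp⟩ := RelCurveDiv.quasiFinite_and_fp_of_isEffCartier f (Z t) hc
  haveI := hqf; haveI := hfp
  haveI : IsFinite ((Z t).subschemeι ≫ f) := IsFinite.of_isProper_of_locallyQuasiFinite _
  rw [Scheme.Hom.isIso_iff_finrank_eq]
  funext s
  let a := f.fiberι s
  let B := Z t
  have h1 : IsPullback (B.comap a).subschemeι ((B.comapIso a).hom ≫ pullback.snd a B.subschemeι) a
      B.subschemeι := by
    refine (IsPullback.of_hasPullback a B.subschemeι).of_iso (B.comapIso a).symm (Iso.refl _)
      (Iso.refl _) (Iso.refl _) ?_ ?_ ?_ ?_ <;> simp [← Scheme.IdealSheafData.comapIso_hom_snd]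
  have h2 : IsPullback ((B.comapIso a).hom ≫ pullback.snd a B.subschemeι)
      ((B.comap a).subschemeι ≫ f.fiberToSpecResidueField s) (B.subschemeι ≫ f) (S.fromSpecResidueField s) :=
    h1.flip.paste_vert (IsPullback.of_hasPullback f (S.fromSpecResidueField s))
  letI := f.fiberOverSpecResidueField s
  obtain ⟨P, hP, hr, hI⟩ := comap_fiberι hJ ht hf s
  haveI : IsIso ((B.comap a).subschemeι ≫ f.fiberToSpecResidueField s) := by
    have key : ∀ I : (f.fiber s).IdealSheafData, I = CurvePoint.ptIdeal P hP →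
        IsIso (I.subschemeι ≫ f.fiberToSpecResidueField s) := by
      rintro I rfl
      let j := (f.fiber s).fromSpecResidueField P
      haveI : IsClosedImmersion j :=
        IsClosedImmersion.of_isPreimmersion _ (by rw [Scheme.range_fromSpecResidueField]; exact hP)
      have hker : j.ker = CurvePoint.ptIdeal P hP := by
        rw [CurvePoint.ptIdeal]
        exact Elliptic.ker_fromSpecResidueField P hP
      rw [← hker]
      haveI : IsIso (j ≫ f.fiberToSpecResidueField s) := by
        have h : j ≫ f.fiberToSpecResidueField s =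
            Spec.map (CommRingCat.ofHom (Curv2.resMap (S.residueField s) (f.fiber s) P)) :=
          GeomConn5.spec_resMap (k := S.residueField s) (X := f.fiber s) P
        rw [h]
        haveI : IsIso (CommRingCat.ofHom (Curv2.resMap (S.residueField s) (f.fiber s) P)) :=
          (ConcreteCategory.isIso_iff_bijective _).2 hr
        infer_instance
      have : j.ker.subschemeι ≫ f.fiberToSpecResidueField s =
          inv j.toImage ≫ j ≫ f.fiberToSpecResidueField s := by
        rw [IsIso.eq_inv_comp, ← Category.assoc]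
        exact congrArg (· ≫ f.fiberToSpecResidueField s) (Scheme.Hom.toImage_imageι j)
      rw [this]
      infer_instance
    exact key _ hI
  obtain ⟨z⟩ : Nonempty ↥(Spec (S.residueField s)) :=
    inferInstanceAs (Nonempty (PrimeSpectrum (S.residueField s)))
  have h3 := Scheme.Hom.finrank_of_isPullback _ _ _ _ h2 z
  rw [Scheme.fromSpecResidueField_apply] at h3
  rw [Pi.one_apply, ← h3, Scheme.Hom.finrank_eq_one_of_isIso, Pi.one_apply]

end Groth.Agent.Elliptic
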