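import Groth.Agent.Elliptic.ZeroSec
import Groth.Agent.GenusOnePt.Basic
import Groth.Agent.Lib.CurveRR
import Groth.Agent.CurveBC.Main
import Groth.Agent.CurveVA.Vanish
import Groth.Agent.ExtShX.SmoothDual
import Groth.Agent.Lib.PushRank
import Groth.Agent.H23.Seesaw
import Groth.Agent.PBC.Bc0Comp
import Groth.Agent.PBC.Top

/-!
# Degree one modules on families of curves of genus one
-/

set_option autoImplicit false
set_option linter.style.haveILetI false
set_option linter.unusedSectionVars false
set_option backward.isDefEq.respectTransparency false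
set_option backward.isDefEq.respectTransparency.types false

universe u

open CategoryTheory CategoryTheory.Limits AlgebraicGeometry TopologicalSpace Opposite

noncomputable section

namespace Groth.Agent.Elliptic

open Groth.Agent InvX

variable {E S : Scheme.{u}} (f : E ⟶ S)

/-- The fibres are curves of genus one. -/
structure IsFam : Prop where
  proper : IsProper f
  smooth : SmoothOfRelativeDimension 1 f
  conn : GeometricallyConnected f
  euler : ∀ s : S, @FGA.eulerCharLE (S.residueField s) _ (f.fiber s) (f.fiberOverSpecResidueField s)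
      (Coh.structureModule (f.fiber s)) 1 = 0

/-- An invertible module of degree one on every fibre. -/
def DegOne (J : E.Modules) : Prop :=
  PicF.IsInvertible J ∧ ∀ s : S, @FGA.eulerCharLE (S.residueField s) _ (f.fiber s) (f.fiberOverSpecResidueField s)
    ((Scheme.Modules.pullback (f.fiberι s)).obj J) 1 = 1

variable {f}

/-- Standard facts on a fibre. -/
theorem IsFam.fibre (hf : IsFam f) (s : S) :
    letI := f.fiberOverSpecResidueField s
    IsProper ((f.fiber s) ↘ Spec (CommRingCat.of (S.residueField s))) ∧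
      Smooth ((f.fiber s) ↘ Spec (CommRingCat.of (S.residueField s))) ∧ IsIntegral (f.fiber s) ∧
      topologicalKrullDim ↥(f.fiber s) = 1 ∧
      Module.finrank (S.residueField s) (Coh.HH (f.fiber s) (Coh.structureModule (f.fiber s)) 0) = 1 ∧
      Curv2.genus (S.residueField s) (f.fiber s) = 1 ∧
      SmoothOfRelativeDimension 1 ((f.fiber s) ↘ Spec (CommRingCat.of (S.residueField s))) := by
  haveI := hf.proper; haveI := hf.smooth; haveI := hf.conn
  haveI : Smooth f := SmoothOfRelativeDimension.smooth 1 f
  letI := f.fiberOverSpecResidueField s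
  let q := (f.fiber s) ↘ Spec (CommRingCat.of (S.residueField s))
  haveI : IsProper q := inferInstanceAs (IsProper (pullback.snd f (S.fromSpecResidueField s)))
  haveI : Smooth q := inferInstanceAs (Smooth (pullback.snd f (S.fromSpecResidueField s)))
  haveI := smoothOfRelativeDimension_isStableUnderBaseChange (n := 1)
  haveI h1 : SmoothOfRelativeDimension 1 q :=
    MorphismProperty.pullback_snd (P := @SmoothOfRelativeDimension 1) f (S.fromSpecResidueField s) hf.smooth
  haveI : GeometricallyConnected q :=
    inferInstanceAs (GeometricallyConnected (pullback.snd f (S.fromSpecResidueField s)))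
  haveI : CompactSpace ↥(f.fiber s) := QuasiCompact.compactSpace_of_compactSpace q
  haveI : Subsingleton ↥(Spec (CommRingCat.of (S.residueField s))) :=
    inferInstanceAs (Subsingleton (PrimeSpectrum (S.residueField s)))
  haveI : ConnectedSpace ↥(f.fiber s) :=
    GeometricallyConnected.connectedSpace (f := q) (Scheme.Hom.isOpenMap _)
  have hd : topologicalKrullDim ↥(f.fiber s) = 1 := by
    have := ExtShX.SmoothDual.topologicalKrullDim_eq (k := S.residueField s) q 1
    exact_mod_cast this
  have h0 := CurveBC.finrank_h0_of_geometricallyConnected (S.residueField s) (f.fiber s)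
  refine ⟨‹_›, ‹_›, CurveCohLib.isIntegral_of_smooth_connected q, hd, h0, ?_, h1⟩
  have h := hf.euler s
  simp only [FGA.eulerCharLE, Finset.sum_range_succ, Finset.sum_range_zero, pow_zero, pow_one, zero_add] at h
  have hh : (1 : ℤ) + -(Curv2.genus (S.residueField s) (f.fiber s) : ℤ) = 0 := by
    rw [← h, h0]; simp [Curv2.genus]
  omega

theorem DegOne.deg {J : E.Modules} (hJ : DegOne f J) (hf : IsFam f) (s : S) :
    letI := f.fiberOverSpecResidueField s
    Curv2.deg (S.residueField s) (f.fiber s) ((Scheme.Modules.pullback (f.fiberι s)).obj J) 1 = 1 := by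
  letI := f.fiberOverSpecResidueField s
  obtain ⟨_, _, _, hd, h0, hg, _⟩ := hf.fibre s
  haveI := CurveCohLib.isNoetherian_of_proper (k := S.residueField s) (X := f.fiber s)
  have e1 := CurveRR.euler_eq_h0_sub_h1 (S.residueField s) hd.le
    (ProjUPX.isQCoh_of_isInvertible (PicClLib.isInvertible_pullback (f.fiberι s) hJ.1))
  have e2 := CurveRR.euler_eq_h0_sub_h1 (S.residueField s) hd.le (QCoh.isQCoh_structureModule (X := f.fiber s))
  have h := hJ.2 s
  simp only [FGA.eulerCharLE, Finset.sum_range_succ, Finset.sum_range_zero, pow_zero, pow_one, zero_add] at h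
  have hg' : Module.finrank (S.residueField s) (Coh.HH (f.fiber s) (Coh.structureModule (f.fiber s)) 1) = 1 := hg
  unfold Curv2.deg
  rw [e1, e2, h0, hg']
  linarith

theorem DegOne.cohom {J : E.Modules} (hJ : DegOne f J) (hf : IsFam f) (s : S) :
    CohIII.fiberRank f J 0 s = 1 ∧ Subsingleton (CohIII.fiberH f J s 1) := by
  letI := f.fiberOverSpecResidueField s
  obtain ⟨_, _, _, hd, h0, hg, _⟩ := hf.fibre s
  have hJs := PicClLib.isInvertible_pullback (f.fiberι s) hJ.1
  have hdJ := hJ.deg hf s
  exact ⟨GenusOnePt.h0_deg_one (S.residueField s) hd h0 hg hJs hdJ,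
    CurveVA.subsingleton_h1_of_deg (S.residueField s) hd h0 hJs (by rw [hdJ, hg]; norm_num)⟩

/-- Sections nowhere vanishing identically on a fibre. -/
def FibNonzero (f : E ⟶ S) {J : E.Modules} {U : S.Opens} (t : Γ(J, f ⁻¹ᵁ U)) : Prop :=
  ∀ s ∈ U, pullElt (f.fiberι s) t ≠ 0

theorem DegOne.push {J : E.Modules} (hJ : DegOne f J) (hf : IsFam f) :
    PicF.IsInvertible ((Scheme.Modules.pushforward f).obj J) ∧
      ∀ (U : S.Opens) (m : Γ((Scheme.Modules.pushforward f).obj J, U)), IsFrame m →
        FibNonzero f (J := J) (U := U) m := by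
  haveI := hf.proper; haveI := hf.smooth
  haveI : Smooth f := SmoothOfRelativeDimension.smooth 1 f
  have hFP := QCoh.isFP_of_isFinLocFree (H23.PullPush.isFinLocFree_of_isInvertible hJ.1)
  have hfl := H23.Seesaw.isFlatOver_of_isInvertible f hJ.1
  obtain ⟨-, hbc⟩ := PBC.isFinLocFree_and_isIso_bc0 f hFP hfl ⊤ fun s _ => Or.inr (hJ.cohom hf s).2
  refine ⟨CurveDuality.isInvertible_of_rank_one
    (PushRank.isFinLocFreeOfRank_push f hFP hfl 1 (fun s => (hJ.cohom hf s).2) fun s => (hJ.cohom hf s).1), ?_⟩
  intro U m hm s hs h0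
  haveI := hbc _ _ (S.fromSpecResidueField s) (f.fiberToSpecResidueField s) (f.fiberι s)
    (IsPullback.of_hasPullback f (S.fromSpecResidueField s)) fun _ => trivial
  let g := S.fromSpecResidueField s
  let β := CohBC.bc0 f g (f.fiberToSpecResidueField s) (f.fiberι s)
    (IsPullback.of_hasPullback f (S.fromSpecResidueField s)).w J
  have hfr := (isFrame_pullElt g hm).map_iso (asIso β)
  obtain ⟨z⟩ : Nonempty ↥(Spec (S.residueField s)) :=
    inferInstanceAs (Nonempty (PrimeSpectrum (S.residueField s)))
  have hz : z ∈ g ⁻¹ᵁ U := by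
    show g z ∈ U
    rwa [Scheme.fromSpecResidueField_apply]
  have h1 := PBC.bc0_app_pullSec f g (f.fiberToSpecResidueField s) (f.fiberι s)
    (IsPullback.of_hasPullback f (S.fromSpecResidueField s)).w J (O := U) (W := g ⁻¹ᵁ U) le_rfl m
  have h2 : (asIso β).hom.app (g ⁻¹ᵁ U) (pullElt g m) = 0 := by
    have e1 : QCoh.pullSec g ((Scheme.Modules.pushforward f).obj J) (le_refl (g ⁻¹ᵁ U)) m = pullElt g m :=
      AModX.res_self _
    rw [e1] at h1
    refine h1.trans ?_
    show AModX.res _ _ (pullElt (f.fiberι s) m) = 0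
    rw [h0, map_zero]
  haveI : Nonempty ↥((g ⁻¹ᵁ U) : (Spec (S.residueField s)).Opens) := ⟨⟨z, hz⟩⟩
  have h01 := hfr.coord_unique le_rfl (r := (0 : Γ(Spec (S.residueField s), g ⁻¹ᵁ U))) (r' := 1)
    (by rw [zero_smul, one_smul, AModX.res_self, h2])
  exact zero_ne_one h01

end Groth.Agent.Elliptic
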