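import Groth.Agent.Elliptic.AbelMap
import Groth.Agent.JacTangent.FibreDeg
import Groth.Prelude.Def_Pic
import Mathlib.CategoryTheory.Monoidal.Cartesian.CommGrp_

/-!
# The group law of a family of curves of genus one with a section
-/

set_option autoImplicit false
set_option linter.style.haveILetI false
set_option linter.unusedSectionVars false
set_option backward.isDefEq.respectTransparency false
set_option backward.isDefEq.respectTransparency.types false

universe u

open CategoryTheory CategoryTheory.Limits AlgebraicGeometry TopologicalSpace Opposite MonoidalCategory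
  CartesianMonoidalCategory

noncomputable section

namespace Groth.Agent.Elliptic

open Groth.Agent InvX
open scoped Groth.Agent.H23.PicMul

variable {E S : Scheme.{u}} {f : E ⟶ S}

theorem isPullback_XTmap' (f : E ⟶ S) {T T' : Over S} (g : T' ⟶ T) :
    IsPullback (PicF.XTmap f g) (pullback.snd f T'.hom) (pullback.snd f T.hom) g.left := by
  refine IsPullback.of_right ?_ (pullback.lift_snd _ _ _) (IsPullback.of_hasPullback f T.hom)
  rw [show PicF.XTmap f g ≫ pullback.fst f T.hom = pullback.fst f T'.hom from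
    (pullback.lift_fst _ _ _).trans (Category.comp_id _), Over.w g]
  exact IsPullback.of_hasPullback f T'.hom

/-- Families of curves of genus one are stable under base change. -/
theorem IsFam.baseChange (hf : IsFam f) {T : Scheme.{u}} (g : T ⟶ S) : IsFam (pullback.snd f g) := by
  haveI := hf.proper; haveI := hf.smooth; haveI := hf.conn
  haveI := smoothOfRelativeDimension_isStableUnderBaseChange (n := 1)
  refine ⟨inferInstance, MorphismProperty.pullback_snd (P := @SmoothOfRelativeDimension 1) f g hf.smooth,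
    inferInstance, fun t => ?_⟩
  let s := g t
  letI := f.fiberOverSpecResidueField s
  letI := (pullback.snd f g).fiberOverSpecResidueField t
  letI : Algebra (S.residueField s) (T.residueField t) := (g.residueFieldMap t).hom.toAlgebra
  have hsq : Spec.map (g.residueFieldMap t) ≫ S.fromSpecResidueField s = T.fromSpecResidueField t ≫ g :=
    Scheme.Hom.SpecMap_residueFieldMap_fromSpecResidueField g t
  let h : (pullback.snd f g).fiber t ⟶ f.fiber s :=
    pullback.lift ((pullback.snd f g).fiberι t ≫ pullback.fst f g)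
      ((pullback.snd f g).fiberToSpecResidueField t ≫ Spec.map (g.residueFieldMap t)) (by
        rw [Category.assoc, Category.assoc, hsq, pullback.condition, ← Category.assoc, ← Category.assoc]
        congr 1
        exact pullback.condition)
  have hpb : IsPullback h ((pullback.snd f g).fiber t ↘ Spec (CommRingCat.of (T.residueField t)))
      ((f.fiber s) ↘ Spec (CommRingCat.of (S.residueField s)))
      (Spec.map (CommRingCat.ofHom (algebraMap (S.residueField s) (T.residueField t)))) := by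
    refine IsPullback.of_right (h₁₂ := f.fiberι s) (v₁₃ := f) (h₂₂ := S.fromSpecResidueField s) ?_
      (pullback.lift_snd _ _ _) (IsPullback.of_hasPullback f (S.fromSpecResidueField s))
    rw [show h ≫ f.fiberι s = (pullback.snd f g).fiberι t ≫ pullback.fst f g from pullback.lift_fst _ _ _,
      show Spec.map (CommRingCat.ofHom (algebraMap (S.residueField s) (T.residueField t))) ≫
        S.fromSpecResidueField s = T.fromSpecResidueField t ≫ g from hsq]
    exact (IsPullback.of_hasPullback (pullback.snd f g) (T.fromSpecResidueField t)).paste_horiz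
      (IsPullback.of_hasPullback f g)
  obtain ⟨_, _, _, _, _, _, _⟩ := hf.fibre s
  haveI : CompactSpace ↥(f.fiber s) :=
    QuasiCompact.compactSpace_of_compactSpace ((f.fiber s) ↘ Spec (CommRingCat.of (S.residueField s)))
  haveI : QuasiSeparatedSpace ↥(f.fiber s) :=
    quasiSeparatedSpace_of_quasiSeparated ((f.fiber s) ↘ Spec (CommRingCat.of (S.residueField s)))
  exact (JacTangent.eulerCharLE_unit (K := S.residueField s) (K' := T.residueField t) h hpb 1).trans (hf.euler s)

theorem isClosedImmersion_sec (hf : IsFam f) {P : S ⟶ E} (hP : P ≫ f = 𝟙 S) : IsClosedImmersion P := by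
  haveI := hf.proper
  haveI : IsClosedImmersion (P ≫ f) := by rw [hP]; infer_instance
  exact IsClosedImmersion.of_comp P f

/-- The ideals of sections pull back to the ideals of sections. -/
theorem cl_ker_pull (hf : IsFam f) {E' S' : Scheme.{u}} {f' : E' ⟶ S'} (hf' : IsFam f') {a : E' ⟶ E} {b : S' ⟶ S}
    (hpb : IsPullback a f' f b) {P : S ⟶ E} (hP : P ≫ f = 𝟙 S) {P' : S' ⟶ E'} (hP' : P' ≫ f' = 𝟙 S')
    (hc : P' ≫ a = b ≫ P) :
    PicF.pullCl a (PicF.cl (ClSub.idealMod P.ker)) = PicF.cl (ClSub.idealMod P'.ker) := by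
  haveI := isClosedImmersion_sec hf hP
  have hsq : IsPullback P' b a P := by
    refine IsPullback.of_bot (v₂₁ := f') (v₂₂ := f) (h₃₁ := b) ?_ hc.symm hpb |>.flip
    rw [hP', hP]
    exact IsPullback.of_vert_isIso ⟨by simp⟩
  obtain ⟨D, hD, ⟨δ⟩⟩ := H23.PicInv.exists_inverse (isInvertible_ker hf hP)
  obtain ⟨t, -, hZ⟩ := exists_section_of_iso (isInvertible_ker hf hP) hD δ
  let t' : Γ((Scheme.Modules.pullback a).obj D, ⊤) := pullElt a t
  have hD' := PicClLib.isInvertible_pullback a hD
  have hZ' : Z t' = P'.ker := by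
    rw [← Z_comap a hD t, hZ, ← FComplLib.ker_of_isPullback hsq]
  have hnz := fibNonzero_of_ker hf' hP' hD' hZ'
  -- the pulled back section is regular
  have hreg : IsRegSec t' := by
    haveI := hf'.proper; haveI := hf'.smooth
    have hc' := (S15990.result f' P' hP').1
    intro x
    obtain ⟨U, hxU, g, hg, hI⟩ := hc' x
    obtain ⟨W, hxW, hWU, e, he⟩ := exists_affine_frame hD' (show x ∈ U.1 from hxU)
    obtain ⟨r, r', err, hxr⟩ := exists_basicOpen_le_affine_inter W.2 U.2 x ⟨hxW, hxU⟩
    haveI := U.2.isLocalization_basicOpen r'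
    have hWr : E'.basicOpen r' ≤ W.1 := err.ge.trans (E'.basicOpen_le r)
    obtain ⟨c, hcc⟩ := (he.res hWr).exists_coord le_rfl (AModX.res _ (le_top : E'.basicOpen r' ≤ ⊤) t')
    rw [AModX.res_self] at hcc
    refine ⟨E'.affineBasicOpen r', err.le hxr, _, c, he.res hWr, hcc, ?_⟩
    have hid := ideal_Z hD' t' (E'.affineBasicOpen r') (he.res hWr) hcc
    rw [hZ', ← P'.ker.map_ideal_basicOpen U r', hI, Ideal.map_span, Set.image_singleton] at hid
    have hg' : algebraMap Γ(E', U.1) Γ(E', E'.basicOpen r') g ∈ nonZeroDivisors Γ(E', E'.basicOpen r') :=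
      IsLocalization.map_nonZeroDivisors_le (Submonoid.powers r') Γ(E', E'.basicOpen r') ⟨g, hg, rfl⟩
    obtain ⟨d, hd⟩ := Ideal.mem_span_singleton'.1
      (show algebraMap Γ(E', U.1) Γ(E', E'.basicOpen r') g ∈ Ideal.span {c} from
        hid.le (Ideal.mem_span_singleton_self _))
    rw [← hd] at hg'
    exact (mul_mem_nonZeroDivisors.1 hg').2
  obtain ⟨η⟩ := nonempty_iso_of_isRegSec hD' hreg
  rw [hZ'] at η
  have h1 : PicF.cl (ClSub.idealMod P'.ker) * PicF.pullCl a (PicF.cl D) = 1 := by
    show _ * PicF.cl ((Scheme.Modules.pullback a).obj D) = 1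
    rw [← H23.PicMul.cl_tensor, H23.PicMul.one_def, H23.PicMul.cl_eq_iff]; exact ⟨η⟩
  have h2 : PicF.pullCl a (PicF.cl (ClSub.idealMod P.ker)) * PicF.pullCl a (PicF.cl D) = 1 := by
    rw [← H23.PicMul.pullCl_mul, ← H23.PicMul.cl_tensor, H23.PicMul.cl_eq_iff.2 ⟨δ⟩, ← H23.PicMul.one_def,
      H23.PicMul.pullCl_one]
  calc PicF.pullCl a (PicF.cl (ClSub.idealMod P.ker))
      = PicF.pullCl a (PicF.cl (ClSub.idealMod P.ker)) *
          (PicF.cl (ClSub.idealMod P'.ker) * PicF.pullCl a (PicF.cl D)) := by rw [h1, mul_one]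
    _ = (PicF.pullCl a (PicF.cl (ClSub.idealMod P.ker)) * PicF.pullCl a (PicF.cl D)) *
          PicF.cl (ClSub.idealMod P'.ker) := by ac_rfl
    _ = PicF.cl (ClSub.idealMod P'.ker) := by rw [h2, one_mul]

section Points

variable {T : Over S}

/-- The section of the base change given by a point. -/
def secOf (g : T ⟶ Over.mk f) : T.left ⟶ PicF.XT f T :=
  pullback.lift g.left (𝟙 T.left) ((Over.w g).trans (Category.id_comp _).symm)

theorem secOf_snd (g : T ⟶ Over.mk f) : secOf g ≫ pullback.snd f T.hom = 𝟙 T.left := pullback.lift_snd _ _ _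

theorem exists_secOf (P : T.left ⟶ PicF.XT f T) (hP : P ≫ pullback.snd f T.hom = 𝟙 _) :
    ∃ g : T ⟶ Over.mk f, secOf g = P := by
  have w : (P ≫ pullback.fst f T.hom) ≫ f = T.hom := by
    rw [Category.assoc, pullback.condition, ← Category.assoc, hP, Category.id_comp]
  exact ⟨Over.homMk (P ≫ pullback.fst f T.hom) w,
    pullback.hom_ext (pullback.lift_fst _ _ _) ((pullback.lift_snd _ _ _).trans hP.symm)⟩

theorem secOf_injective {g g' : T ⟶ Over.mk f} (h : secOf g = secOf g') : g = g' := by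
  ext
  have := congrArg (· ≫ pullback.fst f T.hom) h
  simp only [secOf, pullback.lift_fst] at this
  exact this

/-- The class of the ideal of a point. -/
def cI (g : T ⟶ Over.mk f) : PicF.Cl (PicF.XT f T) := PicF.cl (ClSub.idealMod (secOf g).ker)

theorem cI_comp (hf : IsFam f) {T' : Over S} (m : T' ⟶ T) (g : T ⟶ Over.mk f) :
    PicF.pullCl (PicF.XTmap f m) (cI g) = cI (m ≫ g) := by
  refine cl_ker_pull (hf.baseChange T.hom) (hf.baseChange T'.hom) (isPullback_XTmap' f m) (secOf_snd g)
    (secOf_snd (m ≫ g)) (pullback.hom_ext ?_ ?_)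
  · simp [secOf, PicF.XTmap]
  · simp [secOf, PicF.XTmap]
    exact Category.id_comp _

/-- Classes from the base. -/
def IsBase (T : Over S) (f : E ⟶ S) (c : PicF.Cl (PicF.XT f T)) : Prop :=
  ∃ M : T.left.Modules, PicF.IsInvertible M ∧ c = PicF.pullCl (pullback.snd f T.hom) (PicF.cl M)

theorem IsBase.one : IsBase T f 1 :=
  ⟨_, CurveDeg.isInvertible_structureModule, by rw [← H23.PicMul.one_def, H23.PicMul.pullCl_one]⟩

theorem IsBase.mul {c d : PicF.Cl (PicF.XT f T)} (hc : IsBase T f c) (hd : IsBase T f d) : IsBase T f (c * d) := by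
  obtain ⟨M, hM, rfl⟩ := hc
  obtain ⟨N, hN, rfl⟩ := hd
  exact ⟨_, InvX.isInvertible_tensorMod hM hN, by rw [H23.PicMul.cl_tensor, H23.PicMul.pullCl_mul]⟩

theorem IsBase.exists_inv {c : PicF.Cl (PicF.XT f T)} (hc : IsBase T f c) : ∃ d, IsBase T f d ∧ c * d = 1 := by
  obtain ⟨M, hM, rfl⟩ := hc
  obtain ⟨N, hN, ⟨μ⟩⟩ := H23.PicInv.exists_inverse hM
  exact ⟨_, ⟨N, hN, rfl⟩, by
    rw [← H23.PicMul.pullCl_mul, ← H23.PicMul.cl_tensor, H23.PicMul.cl_eq_iff.2 ⟨μ⟩, ← H23.PicMul.one_def,
      H23.PicMul.pullCl_one]⟩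

theorem IsBase.pull {T' : Over S} (m : T' ⟶ T) {c : PicF.Cl (PicF.XT f T)} (hc : IsBase T f c) :
    IsBase T' f (PicF.pullCl (PicF.XTmap f m) c) := by
  obtain ⟨M, hM, rfl⟩ := hc
  refine ⟨(Scheme.Modules.pullback m.left).obj M, PicClLib.isInvertible_pullback _ hM, ?_⟩
  exact H23.PicMul.cl_eq_iff.2 ⟨(Scheme.Modules.pullbackComp _ _).app M ≪≫
    (Scheme.Modules.pullbackCongr (isPullback_XTmap' f m).w).app M ≪≫
    ((Scheme.Modules.pullbackComp _ _).app M).symm⟩

theorem isUnit_cI (hf : IsFam f) (g : T ⟶ Over.mk f) : IsUnit (cI g) :=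
  H23.PicMul.isUnit_cl (isInvertible_ker (hf.baseChange T.hom) (secOf_snd g))

/-- `z` is the sum of `x` and `y` with origin `o`. -/
def IsSum (o x y z : T ⟶ Over.mk f) : Prop := ∃ c, IsBase T f c ∧ cI x * cI y = cI z * cI o * c

theorem existsUnique_point (hf : IsFam f) (x y w : T ⟶ Over.mk f) :
    ∃! z : T ⟶ Over.mk f, ∃ c, IsBase T f c ∧ cI x * cI y = cI z * cI w * c := by
  have hF := hf.baseChange T.hom
  have hix := isInvertible_ker hF (secOf_snd x)
  have hiy := isInvertible_ker hF (secOf_snd y)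
  have hiw := isInvertible_ker hF (secOf_snd w)
  obtain ⟨Dx, hDx, ⟨dx⟩⟩ := H23.PicInv.exists_inverse hix
  obtain ⟨Dy, hDy, ⟨dy⟩⟩ := H23.PicInv.exists_inverse hiy
  obtain ⟨Dw, hDw, ⟨dw⟩⟩ := H23.PicInv.exists_inverse hiw
  have hx1 : cI x * PicF.cl Dx = 1 := by
    rw [cI, ← H23.PicMul.cl_tensor, H23.PicMul.one_def, H23.PicMul.cl_eq_iff]; exact ⟨dx⟩
  have hy1 : cI y * PicF.cl Dy = 1 := by
    rw [cI, ← H23.PicMul.cl_tensor, H23.PicMul.one_def, H23.PicMul.cl_eq_iff]; exact ⟨dy⟩
  have hL0 : ∀ s : T.left, @FGA.eulerCharLE (T.left.residueField s) _ ((pullback.snd f T.hom).fiber s)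
      ((pullback.snd f T.hom).fiberOverSpecResidueField s)
      ((Scheme.Modules.pullback ((pullback.snd f T.hom).fiberι s)).obj
        (CohB1.tensorMod Dx (ClSub.idealMod (secOf w).ker))) 1 = 0 := fun s => by
    letI := (pullback.snd f T.hom).fiberOverSpecResidueField s
    obtain ⟨_, _, _, hd, h0, hg, _⟩ := hF.fibre s
    haveI := CurveCohLib.isNoetherian_of_proper (k := T.left.residueField s) (X := (pullback.snd f T.hom).fiber s)
    let r := (pullback.snd f T.hom).fiberι s
    have hL := PicClLib.isInvertible_pullback r (InvX.isInvertible_tensorMod hDx hiw)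
    have hDws := PicClLib.isInvertible_pullback r hDw
    have h1 := (degOne_of_inverse hF (secOf_snd x) hDx dx).deg hF s
    have h2 := (degOne_of_inverse hF (secOf_snd w) hDw dw).deg hF s
    have hcl : PicF.cl (CohB1.tensorMod ((Scheme.Modules.pullback r).obj
        (CohB1.tensorMod Dx (ClSub.idealMod (secOf w).ker))) ((Scheme.Modules.pullback r).obj Dw)) =
        PicF.cl ((Scheme.Modules.pullback r).obj Dx) := by
      rw [H23.PicMul.cl_tensor]
      show PicF.pullCl r (PicF.cl (CohB1.tensorMod Dx (ClSub.idealMod (secOf w).ker))) * PicF.pullCl r (PicF.cl Dw) =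
        PicF.pullCl r (PicF.cl Dx)
      rw [H23.PicMul.cl_tensor, H23.PicMul.pullCl_mul, mul_assoc, ← H23.PicMul.pullCl_mul, ← H23.PicMul.cl_tensor,
        H23.PicMul.cl_eq_iff.2 ⟨dw⟩, ← H23.PicMul.one_def, H23.PicMul.pullCl_one, mul_one]
    obtain ⟨e⟩ := H23.PicMul.cl_eq_iff.1 hcl
    have h3 := (CurveRR.deg_tensor (T.left.residueField s) hd hL hDws).symm.trans
      (CurveRR.deg_congr (T.left.residueField s) e 1)
    rw [h1, h2] at h3
    have e1 := CurveRR.euler_eq_h0_sub_h1 (T.left.residueField s) hd.le (ProjUPX.isQCoh_of_isInvertible hL)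
    have e2 := CurveRR.euler_eq_h0_sub_h1 (T.left.residueField s) hd.le
      (QCoh.isQCoh_structureModule (X := (pullback.snd f T.hom).fiber s))
    have hg' : Module.finrank (T.left.residueField s) (Coh.HH ((pullback.snd f T.hom).fiber s)
        (Coh.structureModule ((pullback.snd f T.hom).fiber s)) 1) = 1 := hg
    unfold Curv2.deg at h3
    rw [e1, e2, h0, hg'] at h3
    simp only [FGA.eulerCharLE, Finset.sum_range_succ, Finset.sum_range_zero, pow_zero, pow_one, zero_add]
    push_cast at h3 ⊢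
    linarith
  have hJ := (degOne_of_inverse hF (secOf_snd y) hDy dy).tensor hF (InvX.isInvertible_tensorMod hDx hiw) hL0
  obtain ⟨P, ⟨hP, N, hN, hPN⟩, huniq⟩ := existsUnique_section hJ hF
  rw [H23.PicMul.cl_tensor, H23.PicMul.cl_tensor] at hPN
  obtain ⟨z, hz⟩ := exists_secOf P hP
  refine ⟨z, ⟨_, ⟨N, hN, rfl⟩, ?_⟩, ?_⟩
  · show cI x * cI y = PicF.cl (ClSub.idealMod (secOf z).ker) * cI w * _
    rw [hz]
    calc cI x * cI y = cI x * cI y * (PicF.cl (ClSub.idealMod P.ker) *
          (PicF.cl Dx * cI w * PicF.cl Dy * PicF.pullCl (pullback.snd f T.hom) (PicF.cl N))) := by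
            rw [show cI w = PicF.cl (ClSub.idealMod (secOf w).ker) from rfl, hPN, mul_one]
      _ = PicF.cl (ClSub.idealMod P.ker) * cI w * PicF.pullCl (pullback.snd f T.hom) (PicF.cl N) *
          ((cI x * PicF.cl Dx) * (cI y * PicF.cl Dy)) := by ac_rfl
      _ = _ := by rw [hx1, hy1, mul_one, mul_one]
  · rintro z' ⟨c, ⟨N', hN', rfl⟩, hc⟩
    refine secOf_injective ((huniq (secOf z') ⟨secOf_snd z', N', hN', ?_⟩).trans hz.symm)
    rw [H23.PicMul.cl_tensor, H23.PicMul.cl_tensor]
    show cI z' * _ = 1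
    calc cI z' * (PicF.cl Dx * cI w * PicF.cl Dy * PicF.pullCl (pullback.snd f T.hom) (PicF.cl N'))
        = (cI z' * cI w * PicF.pullCl (pullback.snd f T.hom) (PicF.cl N')) * (PicF.cl Dx * PicF.cl Dy) := by ac_rfl
      _ = (cI x * cI y) * (PicF.cl Dx * PicF.cl Dy) := by rw [hc]
      _ = (cI x * PicF.cl Dx) * (cI y * PicF.cl Dy) := by ac_rfl
      _ = 1 := by rw [hx1, hy1, mul_one]

end Points

variable (hf : IsFam f) (o : 𝟙_ (Over S) ⟶ Over.mk f)

/-- The origin over a test object. -/
def orig (T : Over S) : T ⟶ Over.mk f := toUnit T ≫ o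

/-- The sum of two points. -/
def add {T : Over S} (x y : T ⟶ Over.mk f) : T ⟶ Over.mk f := (existsUnique_point hf x y (orig o T)).choose

theorem isSum_add {T : Over S} (x y : T ⟶ Over.mk f) : IsSum (orig o T) x y (add hf o x y) :=
  (existsUnique_point hf x y (orig o T)).choose_spec.1

include hf in
theorem sum_unique {T : Over S} {x y z z' : T ⟶ Over.mk f} (h : IsSum (orig o T) x y z)
    (h' : IsSum (orig o T) x y z') : z = z' :=
  (existsUnique_point hf x y (orig o T)).unique h h'

theorem add_eq {T : Over S} {x y z : T ⟶ Over.mk f} (h : IsSum (orig o T) x y z) : add hf o x y = z :=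
  sum_unique hf o (isSum_add hf o x y) h

theorem add_comm' {T : Over S} (x y : T ⟶ Over.mk f) : add hf o x y = add hf o y x := by
  obtain ⟨c, hc, h⟩ := isSum_add hf o y x
  exact add_eq hf o ⟨c, hc, (mul_comm _ _).trans h⟩

theorem add_orig {T : Over S} (x : T ⟶ Over.mk f) : add hf o x (orig o T) = x :=
  add_eq hf o ⟨1, IsBase.one, (mul_one _).symm⟩

theorem add_assoc' {T : Over S} (x y z : T ⟶ Over.mk f) :
    add hf o (add hf o x y) z = add hf o x (add hf o y z) := by
  obtain ⟨c1, hc1, e1⟩ := isSum_add hf o x y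
  obtain ⟨c2, hc2, e2⟩ := isSum_add hf o (add hf o x y) z
  obtain ⟨c3, hc3, e3⟩ := isSum_add hf o y z
  obtain ⟨d3, hd3, e3'⟩ := hc3.exists_inv
  refine (add_eq hf o ⟨c1 * c2 * d3, (hc1.mul hc2).mul hd3, ?_⟩).symm
  refine (isUnit_cI hf (orig o T)).mul_right_cancel ?_
  calc cI x * cI (add hf o y z) * cI (orig o T)
      = cI x * (cI (add hf o y z) * cI (orig o T) * c3) * d3 := by
        rw [mul_assoc (cI x) _ d3, mul_assoc (cI (add hf o y z) * cI (orig o T)) c3 d3, e3', mul_one, mul_assoc]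
    _ = (cI x * cI y) * cI z * d3 := by rw [← e3]; ac_rfl
    _ = cI (add hf o x y) * cI z * (cI (orig o T) * c1 * d3) := by rw [e1]; ac_rfl
    _ = cI (add hf o (add hf o x y) z) * cI (orig o T) * (c1 * c2 * d3) * cI (orig o T) := by rw [e2]; ac_rfl

include hf in
theorem exists_neg {T : Over S} (x : T ⟶ Over.mk f) : ∃ z, add hf o z x = orig o T := by
  obtain ⟨z, ⟨c, hc, h⟩, -⟩ := existsUnique_point hf (orig o T) (orig o T) x
  obtain ⟨d, hd, hcd⟩ := hc.exists_inv
  refine ⟨z, add_eq hf o ⟨d, hd, ?_⟩⟩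
  rw [h, mul_assoc, hcd, mul_one]

theorem comp_orig {T T' : Over S} (m : T' ⟶ T) : m ≫ orig o T = orig o T' := by
  rw [orig, orig, ← Category.assoc, toUnit_unique (m ≫ toUnit T) (toUnit T')]

theorem comp_add {T T' : Over S} (m : T' ⟶ T) (x y : T ⟶ Over.mk f) :
    m ≫ add hf o x y = add hf o (m ≫ x) (m ≫ y) := by
  obtain ⟨c, hc, h⟩ := isSum_add hf o x y
  refine (add_eq hf o ⟨_, hc.pull m, ?_⟩).symm
  rw [← cI_comp hf, ← cI_comp hf, ← H23.PicMul.pullCl_mul, h, H23.PicMul.pullCl_mul, H23.PicMul.pullCl_mul,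
    cI_comp hf, cI_comp hf, comp_orig o m]

/-- The group of points. -/
@[instance_reducible]
def commGroup (T : Over S) : CommGroup (T ⟶ Over.mk f) where
  mul := add hf o
  mul_assoc := add_assoc' hf o
  one := orig o T
  one_mul x := (add_comm' hf o _ x).trans (add_orig hf o x)
  mul_one := add_orig hf o
  inv x := (exists_neg hf o x).choose
  inv_mul_cancel x := (exists_neg hf o x).choose_spec
  mul_comm := add_comm' hf o

/-- The functor of points, valued in commutative groups. -/
def ptsFunctor : (Over S)ᵒᵖ ⥤ CommGrpCat.{u} where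
  obj T := @CommGrpCat.of (unop T ⟶ Over.mk f) (commGroup hf o (unop T))
  map {T T'} g :=
    letI := commGroup hf o (unop T)
    letI := commGroup hf o (unop T')
    CommGrpCat.ofHom
      { toFun := fun x => g.unop ≫ x
        map_one' := comp_orig o g.unop
        map_mul' := comp_add hf o g.unop }
  map_id T := ConcreteCategory.hom_ext _ _ fun (x : unop T ⟶ Over.mk f) => Category.id_comp x
  map_comp {T T' T''} g g' := ConcreteCategory.hom_ext _ _ fun (x : unop T ⟶ Over.mk f) => Category.assoc g'.unop g.unop x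

/-- The commutative group object. -/
@[instance_reducible]
def commGrpObj : CommGrpObj (Over.mk f) :=
  CommGrpObj.ofRepresentableBy (Over.mk f) (ptsFunctor hf o)
    { homEquiv := fun {T} => Equiv.refl (T ⟶ Over.mk f)
      homEquiv_comp := fun _ _ => rfl }

include hf in
theorem exists_grpObj : ∃ G : GrpObj (Over.mk f),
    @MonObj.one _ _ _ (Over.mk f) G.toMonObj = o ∧ @IsCommMonObj _ _ _ _ (Over.mk f) G.toMonObj := by
  letI := commGrpObj hf o
  refine ⟨(commGrpObj hf o).toGrpObj, ?_, inferInstance⟩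
  show toUnit (𝟙_ (Over S)) ≫ o = o
  rw [toUnit_unique (toUnit (𝟙_ (Over S))) (𝟙 _), Category.id_comp]

end Groth.Agent.Elliptic
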