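import Groth.Agent.Elliptic.Group
import Groth.Agent.HilbCurve.Affine

/-!
# Curves of genus one over a field
-/

set_option autoImplicit false
set_option linter.style.haveILetI false
set_option linter.unusedSectionVars false
set_option backward.isDefEq.respectTransparency false
set_option backward.isDefEq.respectTransparency.types false

universe u

open CategoryTheory CategoryTheory.Limits AlgebraicGeometry TopologicalSpace Opposite

noncomputable section

namespace Groth.Agent.Elliptic

open Groth.Agent

theorem geometricallyConnected_of_irreducible {X S : Scheme.{u}} (f : X ⟶ S) [GeometricallyIrreducible f] :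
    GeometricallyConnected f :=
  ⟨fun K hK y Z fst snd h => by
    have : IrreducibleSpace ↥Z := GeometricallyIrreducible.geometrically_irreducibleSpace (f := f) y fst snd h
    infer_instance⟩

variable {k : Type u} [Field k] {X : Scheme.{u}} [X.Over (Spec (CommRingCat.of k))]

theorem isFam_overField [IsProper (X ↘ Spec (CommRingCat.of k))] [Smooth (X ↘ Spec (CommRingCat.of k))]
    [GeometricallyConnected (X ↘ Spec (CommRingCat.of k))] (hdim : topologicalKrullDim X = 1)
    (hg : Curv2.genus k X = 1) : IsFam (X ↘ Spec (CommRingCat.of k)) := by
  let f := X ↘ Spec (CommRingCat.of k)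
  haveI : Subsingleton ↥(Spec (CommRingCat.of k)) := inferInstanceAs (Subsingleton (PrimeSpectrum k))
  haveI : CompactSpace X := QuasiCompact.compactSpace_of_compactSpace f
  haveI : QuasiSeparatedSpace X := quasiSeparatedSpace_of_quasiSeparated f
  haveI : ConnectedSpace X := GeometricallyConnected.connectedSpace (f := f) (Scheme.Hom.isOpenMap _)
  haveI : IsIntegral X := CurveCohLib.isIntegral_of_smooth_connected f
  refine ⟨‹_›, HilbCurve.smoothOfRelativeDimension_one f hdim, ‹_›, fun s => ?_⟩
  letI := f.fiberOverSpecResidueField s
  obtain ⟨g, hg'⟩ := Spec.map_surjective ((Spec (CommRingCat.of k)).fromSpecResidueField s)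
  letI : Algebra k ((Spec (CommRingCat.of k)).residueField s) := g.hom.toAlgebra
  have hpb : IsPullback (f.fiberι s) ((f.fiber s) ↘ Spec (CommRingCat.of ((Spec (CommRingCat.of k)).residueField s)))
      (X ↘ Spec (CommRingCat.of k))
      (Spec.map (CommRingCat.ofHom (algebraMap k ((Spec (CommRingCat.of k)).residueField s)))) := by
    have : Spec.map (CommRingCat.ofHom (algebraMap k ((Spec (CommRingCat.of k)).residueField s))) =
        (Spec (CommRingCat.of k)).fromSpecResidueField s := by rw [← hg']; rfl
    rw [this]
    exact IsPullback.of_hasPullback f _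
  refine (JacTangent.eulerCharLE_unit (K := k) (K' := (Spec (CommRingCat.of k)).residueField s) _ hpb 1).trans ?_
  have h0 := CurveBC.finrank_h0_of_geometricallyConnected k X
  have hg1 : Module.finrank k (Coh.HH X (Coh.structureModule X) 1) = 1 := hg
  simp [FGA.eulerCharLE, Finset.sum_range_succ, h0, hg1]

end Groth.Agent.Elliptic
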