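import Groth.Agent.MultTypeLib.EtaleSplit
import Mathlib.AlgebraicGeometry.Morphisms.FlatRank
import Mathlib.AlgebraicGeometry.Morphisms.Etale
import Mathlib.AlgebraicGeometry.Morphisms.Finite

/-!
# Splitting a finite etale scheme over a field by a finite separable extension
-/

set_option autoImplicit false
set_option linter.style.haveILetI false
set_option linter.unusedSectionVars false
set_option backward.isDefEq.respectTransparency false
set_option backward.isDefEq.respectTransparency.types false

universe u

open CategoryTheory CategoryTheory.Limits AlgebraicGeometry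
open scoped TensorProduct

noncomputable section

namespace Groth.Agent.Elliptic.Split

theorem natCard_primeSpectrum_fun (K : Type u) [Field K] (n : ℕ) :
    Nat.card (PrimeSpectrum (Fin n → K)) = n := by
  let b : Fin n → PrimeSpectrum (Fin n → K) := fun i =>
    PrimeSpectrum.comap (Pi.evalRingHom (fun _ => K) i) ⊥
  have hb : Function.Bijective b := by
    refine ⟨fun i j h => ?_, fun p => ?_⟩
    · by_contra hne
      have h1 : (Pi.single i 1 : Fin n → K) ∈ (b j).asIdeal := by
        show (Pi.single i 1 : Fin n → K) j ∈ (⊥ : Ideal K)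
        simp [Ne.symm hne]
      rw [← h] at h1
      have h2 : (Pi.single i 1 : Fin n → K) i ∈ (⊥ : Ideal K) := h1
      simp at h2
    · obtain ⟨i, q, hq⟩ := PrimeSpectrum.exists_comap_evalRingHom_eq p
      exact ⟨i, by rw [← hq, Subsingleton.elim q ⊥]⟩
  rw [← Nat.card_eq_of_bijective b hb, Nat.card_fin]

theorem natCard_algHom {K C : Type u} [Field K] [CommRing C] [Algebra K C] [Algebra.IsFiniteSplit K C] :
    Nat.card (C →ₐ[K] K) = Module.finrank K C := by
  obtain ⟨n, ⟨e⟩⟩ := Algebra.IsFiniteSplit.nonempty_algEquiv_fun K C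
  rw [Nat.card_congr (Algebra.IsFiniteSplit.algHomEquivPrimeSpectrum K C),
    Nat.card_congr (PrimeSpectrum.comapEquiv e.toRingEquiv).toEquiv, natCard_primeSpectrum_fun,
    e.toLinearEquiv.finrank_eq, Module.finrank_fin_fun]

/-- A finite etale algebra over a field is split by a finite separable extension. -/
theorem exists_split (k C : Type u) [Field k] [CommRing C] [Algebra k C] [Module.Finite k C] [Algebra.Etale k C] :
    ∃ (k' : Type u) (_ : Field k') (_ : Algebra k k'), FiniteDimensional k k' ∧ Algebra.IsSeparable k k' ∧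
      Nat.card (C →ₐ[k] k') = Module.finrank k C := by
  obtain ⟨E, _, _, hEet, hEfin, hEff, hEconn, hsplit⟩ := MultTypeLib.exists_connected_split (R := k) C
  obtain ⟨I, hI, Ai, _, _, eE, hAi⟩ := (Algebra.FormallyEtale.iff_exists_algEquiv_prod k E).mp inferInstance
  obtain ⟨i⟩ : Nonempty I := by
    by_contra hempty
    rw [not_nonempty_iff] at hempty
    have : Subsingleton E := eE.toEquiv.subsingleton
    exact not_isEmpty_of_nonempty (PrimeSpectrum E) inferInstance
  let π : E →ₐ[k] Ai i := (Pi.evalAlgHom _ Ai i).comp eE.toAlgHom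
  letI : Algebra E (Ai i) := π.toRingHom.toAlgebra
  haveI : IsScalarTower k E (Ai i) := IsScalarTower.of_algebraMap_eq fun c => (π.commutes c).symm
  haveI := hAi i
  haveI : Module.Finite k (Ai i) :=
    Module.Finite.of_surjective π.toLinearMap ((Function.surjective_eval i).comp eE.surjective)
  haveI := hsplit
  haveI : Algebra.IsFiniteSplit (Ai i) (Ai i ⊗[k] C) :=
    Algebra.IsFiniteSplit.of_algEquiv (Algebra.TensorProduct.cancelBaseChange k E (Ai i) (Ai i) C)
  refine ⟨Ai i, inferInstance, inferInstance, inferInstance, inferInstance, ?_⟩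
  rw [Nat.card_congr (AlgHom.liftEquiv k (Ai i) C (Ai i)), natCard_algHom, Module.finrank_baseChange]

/-- A finite etale scheme over a field has full sections over a finite separable extension. -/
theorem exists_split_points {k : Type u} [Field k] {N : Scheme.{u}} (q : N ⟶ Spec (CommRingCat.of k))
    [IsFinite q] [Etale q] :
    ∃ (k' : Type u) (_ : Field k') (_ : Algebra k k'), FiniteDimensional k k' ∧ Algebra.IsSeparable k k' ∧
      Nat.card {t : Spec (CommRingCat.of k') ⟶ N // t ≫ q = Spec.map (CommRingCat.ofHom (algebraMap k k'))} =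
        Scheme.Hom.finrank q (IsLocalRing.closedPoint k) := by
  haveI : IsAffine N := isAffine_of_isAffineHom q
  let C := Γ(N, ⊤)
  obtain ⟨φ, hφ⟩ := Spec.map_surjective (N.isoSpec.inv ≫ q)
  let : Algebra k C := φ.hom.toAlgebra
  have h1 : IsFinite (Spec.map φ) := by rw [hφ]; infer_instance
  have h2 : Etale (Spec.map φ) := by rw [hφ]; infer_instance
  have : Module.Finite k C := by rw [IsFinite.SpecMap_iff] at h1; exact h1
  have : Algebra.Etale k C := by rw [HasRingHomProperty.Spec_iff (P := @Etale)] at h2; exact h2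
  have hq : q = N.isoSpec.hom ≫ Spec.map (CommRingCat.ofHom (algebraMap k C)) := by
    rw [show CommRingCat.ofHom (algebraMap k C) = φ from rfl, hφ, Iso.hom_inv_id_assoc]
  haveI : IsFinite (Spec.map (CommRingCat.ofHom (algebraMap k C))) := h1
  haveI : Flat (Spec.map (CommRingCat.ofHom (algebraMap k C))) := by
    rw [Flat.SpecMap_iff]; exact RingHom.flat_algebraMap_iff.2 inferInstance
  have e : Scheme.Hom.finrank q (IsLocalRing.closedPoint k) = Module.finrank k C := by
    rw [hq, Scheme.Hom.finrank_comp_left_of_isIso, Scheme.Hom.finrank_SpecMap_algebraMap,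
      Module.rankAtStalk_eq_finrank_of_free]
    rfl
  obtain ⟨k', _, _, hfd, hsep, hcard⟩ := exists_split k C
  refine ⟨k', inferInstance, inferInstance, hfd, hsep, ?_⟩
  rw [e, ← hcard]
  refine (Nat.card_eq_of_bijective (fun ψ : C →ₐ[k] k' =>
    (⟨Spec.map (CommRingCat.ofHom ψ.toRingHom) ≫ N.isoSpec.inv, ?_⟩ :
      {t : Spec (CommRingCat.of k') ⟶ N // t ≫ q = Spec.map (CommRingCat.ofHom (algebraMap k k'))})) ⟨?_, ?_⟩).symm
  · rw [hq, Category.assoc, Iso.inv_hom_id_assoc, ← Spec.map_comp]
    exact congrArg Spec.map (CommRingCat.hom_ext ψ.comp_algebraMap)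
  · intro a b h
    have h3 := Spec.map_injective ((cancel_mono N.isoSpec.inv).1 (congrArg Subtype.val h))
    exact AlgHom.coe_ringHom_injective (congrArg CommRingCat.Hom.hom h3)
  · rintro ⟨t, ht⟩
    obtain ⟨ψ, hψ⟩ := Spec.map_surjective (t ≫ N.isoSpec.hom)
    have hc : CommRingCat.ofHom (algebraMap k C) ≫ ψ = CommRingCat.ofHom (algebraMap k k') := by
      refine Spec.map_injective ?_
      rw [Spec.map_comp, hψ, Category.assoc, ← hq, ht]
    refine ⟨{ ψ.hom with commutes' := fun c => congrArg (fun m => m.hom c) hc }, Subtype.ext ?_⟩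
    show Spec.map ψ ≫ N.isoSpec.inv = t
    rw [hψ, Category.assoc, Iso.hom_inv_id, Category.comp_id]

end Groth.Agent.Elliptic.Split
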