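import Groth.Agent.Elliptic.Group
import Groth.Agent.S18840

/-!
# Torsion points and torsion classes of a family of curves of genus one over a point
-/

set_option autoImplicit false
set_option linter.style.haveILetI false
set_option linter.unusedSectionVars false
set_option backward.isDefEq.respectTransparency false
set_option backward.isDefEq.respectTransparency.types false

universe u

open CategoryTheory CategoryTheory.Limits AlgebraicGeometry TopologicalSpace Opposite MonoidalCategory
  CartesianMonoidalCategory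

noncomputable section

namespace Groth.Agent.Elliptic

open Groth.Agent InvX
open scoped Groth.Agent.H23.PicMul CategoryTheory.MonObj

variable {E S : Scheme.{u}} {f : E ⟶ S} (hf : IsFam f) (o : 𝟙_ (Over S) ⟶ Over.mk f)

/-- The monoid structure of the representing object is the addition of points. -/
theorem lift_mul_eq {T : Over S} (x y : T ⟶ Over.mk f) :
    letI := (commGrpObj hf o).toGrpObj
    x * y = add hf o x y := by
  letI := (commGrpObj hf o).toGrpObj
  show lift x y ≫ MonObj.mul = _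
  show lift x y ≫ add hf o (fst (Over.mk f) (Over.mk f)) (snd (Over.mk f) (Over.mk f)) = _
  rw [comp_add hf o, lift_fst, lift_snd]

theorem one_eq (T : Over S) :
    letI := (commGrpObj hf o).toGrpObj
    (1 : T ⟶ Over.mk f) = orig o T := by
  letI := (commGrpObj hf o).toGrpObj
  show toUnit T ≫ MonObj.one = _
  show toUnit T ≫ toUnit (𝟙_ (Over S)) ≫ o = _
  rw [toUnit_unique (toUnit (𝟙_ (Over S))) (𝟙 _), Category.id_comp]
  rfl

variable {T : Over S} [Subsingleton T.left] [Nonempty T.left]

theorem IsBase.eq_one {c : PicF.Cl (PicF.XT f T)} (hc : IsBase T f c) : c = 1 := by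
  obtain ⟨M, hM, rfl⟩ := hc
  obtain ⟨e⟩ := triv_of_subsingleton hM
  rw [H23.PicMul.cl_eq_iff.2 ⟨e⟩, ← H23.PicMul.one_def, H23.PicMul.pullCl_one]

/-- The unit class of a point. -/
def uI (x : T ⟶ Over.mk f) : (PicF.Cl (PicF.XT f T))ˣ := (isUnit_cI hf x).unit

include hf o in
theorem uI_injective {x y : T ⟶ Over.mk f} (h : cI x = cI y) : x = y := by
  refine sum_unique hf o (x := x) (y := orig o T) ⟨1, IsBase.one, (mul_one _).symm⟩ ⟨1, IsBase.one, ?_⟩
  rw [mul_one, h]

/-- The class of the difference of a point with the origin. -/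
def phi : letI := (commGrpObj hf o).toGrpObj
    (T ⟶ Over.mk f) →* (PicF.Cl (PicF.XT f T))ˣ :=
  letI := (commGrpObj hf o).toGrpObj
  { toFun := fun x => uI hf x * (uI hf (orig o T))⁻¹
    map_one' := by rw [one_eq hf o]; exact mul_inv_cancel _
    map_mul' := fun x y => by
      obtain ⟨c, hc, h⟩ := isSum_add hf o x y
      rw [hc.eq_one, mul_one] at h
      have h' : uI hf x * uI hf y = uI hf (add hf o x y) * uI hf (orig o T) := Units.ext h
      rw [lift_mul_eq hf o, eq_mul_inv_of_mul_eq h'.symm]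
      ac_rfl }

theorem phi_injective : letI := (commGrpObj hf o).toGrpObj
    Function.Injective (phi hf o (T := T)) := fun x y h =>
  uI_injective hf o (congrArg Units.val (mul_right_cancel (show _ * _ = _ * _ from h)))

theorem isInvertibleCl_phi (x : T ⟶ Over.mk f) :
    letI := (commGrpObj hf o).toGrpObj
    ∃ M : (PicF.XT f T).Modules, PicF.cl M = (phi hf o x : PicF.Cl (PicF.XT f T)) ∧ PicF.IsInvertible M := by
  letI := (commGrpObj hf o).toGrpObj
  have hx := isInvertible_ker (hf.baseChange T.hom) (secOf_snd x)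
  have ho := isInvertible_ker (hf.baseChange T.hom) (secOf_snd (orig o T))
  obtain ⟨D, hD, ⟨δ⟩⟩ := H23.PicInv.exists_inverse ho
  refine ⟨_, ?_, InvX.isInvertible_tensorMod hx hD⟩
  show _ = cI x * ↑(uI hf (orig o T))⁻¹
  rw [H23.PicMul.cl_tensor]
  refine congrArg (cI x * ·) (Units.eq_inv_of_mul_eq_one_left ?_)
  show cI (orig o T) * PicF.cl D = 1
  rw [cI, ← H23.PicMul.cl_tensor, H23.PicMul.one_def, H23.PicMul.cl_eq_iff]
  exact ⟨δ⟩

include hf in
/-- A torsion invertible module has degree zero on every fibre. -/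
theorem euler_zero_of_torsion {n : ℕ} (hn : n ≠ 0) {M : E.Modules} (hM : PicF.IsInvertible M)
    (e : Nonempty (CohB1.tensorPow M n ≅ Coh.structureModule E)) (s : S) :
    @FGA.eulerCharLE (S.residueField s) _ (f.fiber s) (f.fiberOverSpecResidueField s)
      ((Scheme.Modules.pullback (f.fiberι s)).obj M) 1 = 0 := by
  letI := f.fiberOverSpecResidueField s
  obtain ⟨_, _, _, hd, h0, hg, _⟩ := hf.fibre s
  haveI := CurveCohLib.isNoetherian_of_proper (k := S.residueField s) (X := f.fiber s)
  have hMs := PicClLib.isInvertible_pullback (f.fiberι s) hM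
  have h1 : PicF.cl ((Scheme.Modules.pullback (f.fiberι s)).obj M) ^ n = 1 := by
    show PicF.pullCl (f.fiberι s) (PicF.cl M) ^ n = 1
    rw [← H23.PicMul.pullCl_pow, ← H23.PicMul.cl_tensorPow, H23.PicMul.cl_eq_iff.2 e, ← H23.PicMul.one_def,
      H23.PicMul.pullCl_one]
  rw [← H23.PicMul.cl_tensorPow, H23.PicMul.one_def, H23.PicMul.cl_eq_iff] at h1
  obtain ⟨e'⟩ := h1
  have h2 := (CurveRR.deg_congr (S.residueField s) e' 1).symm.trans
    (S18840.deg_tensorPow (S.residueField s) hd hMs n).2
  rw [CurveDeg.deg_structureModule] at h2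
  have h3 : Curv2.deg (S.residueField s) (f.fiber s) ((Scheme.Modules.pullback (f.fiberι s)).obj M) 1 = 0 := by
    rcases mul_eq_zero.1 h2.symm with h | h
    · exact absurd (by exact_mod_cast h) hn
    · exact h
  have e1 := CurveRR.euler_eq_h0_sub_h1 (S.residueField s) hd.le (ProjUPX.isQCoh_of_isInvertible hMs)
  have e2 := CurveRR.euler_eq_h0_sub_h1 (S.residueField s) hd.le (QCoh.isQCoh_structureModule (X := f.fiber s))
  have hg' : Module.finrank (S.residueField s) (Coh.HH (f.fiber s) (Coh.structureModule (f.fiber s)) 1) = 1 := hg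
  unfold Curv2.deg at h3
  rw [e1, e2, h0, hg'] at h3
  simp only [FGA.eulerCharLE, Finset.sum_range_succ, Finset.sum_range_zero, pow_zero, pow_one, zero_add]
  push_cast at h3 ⊢
  linarith

include hf in
/-- Torsion points are the torsion classes. -/
theorem natCard_torsion_cl {n : ℕ} (hn : n ≠ 0) :
    letI := (commGrpObj hf o).toGrpObj
    Nat.card {c : PicF.Cl (PicF.XT f T) | ∃ M : (PicF.XT f T).Modules, PicF.cl M = c ∧ PicF.IsInvertible M ∧
        Nonempty (CohB1.tensorPow M n ≅ Coh.structureModule (PicF.XT f T))} =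
      Nat.card {x : T ⟶ Over.mk f // x ^ n = 1} := by
  letI := (commGrpObj hf o).toGrpObj
  symm
  refine Nat.card_eq_of_bijective
    (fun x => ⟨(phi hf o x.1 : PicF.Cl (PicF.XT f T)), ?_⟩) ⟨fun x y h => ?_, ?_⟩
  · obtain ⟨M, hMc, hM⟩ := isInvertibleCl_phi hf o x.1
    refine ⟨M, hMc, hM, H23.PicMul.cl_eq_iff.1 ?_⟩
    rw [H23.PicMul.cl_tensorPow, hMc, ← Units.val_pow_eq_pow_val, ← map_pow, x.2, map_one, Units.val_one]
    rfl
  · exact Subtype.ext (phi_injective hf o (Units.ext (congrArg Subtype.val h)))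
  · rintro ⟨c, M, rfl, hM, hMn⟩
    have hF := hf.baseChange T.hom
    obtain ⟨P, ⟨hP, N, hN, ⟨eN⟩⟩, -⟩ := existsUnique_abel hF (secOf_snd (orig o T)) hM
      (euler_zero_of_torsion hF hn hM hMn)
    obtain ⟨g, rfl⟩ := exists_secOf P hP
    have h1 := H23.PicMul.cl_eq_iff.2 ⟨eN⟩
    rw [H23.PicMul.cl_tensor, H23.PicMul.cl_tensor] at h1
    have hb : PicF.cl ((Scheme.Modules.pullback (pullback.snd f T.hom)).obj N) = 1 :=
      IsBase.eq_one (f := f) (T := T) ⟨N, hN, rfl⟩
    rw [hb, mul_one] at h1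
    have h2 : PicF.cl M = ((phi hf o g)⁻¹ : (PicF.Cl (PicF.XT f T))ˣ) := by
      refine (Units.eq_mul_inv_iff_mul_eq (uI hf g)).2 h1 |>.trans ?_
      show _ = ((uI hf g * (uI hf (orig o T))⁻¹)⁻¹ : (PicF.Cl (PicF.XT f T))ˣ).val
      rw [mul_inv_rev, inv_inv, Units.val_mul]
      rfl
    refine ⟨⟨g⁻¹, phi_injective hf o ?_⟩, Subtype.ext ?_⟩
    · apply Units.ext
      rw [map_pow, map_inv, map_one, Units.val_pow_eq_pow_val, ← h2, ← H23.PicMul.cl_tensorPow,
        Units.val_one, H23.PicMul.one_def]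
      exact H23.PicMul.cl_eq_iff.2 hMn
    · show ((phi hf o g⁻¹ : (PicF.Cl (PicF.XT f T))ˣ) : PicF.Cl (PicF.XT f T)) = PicF.cl M
      rw [map_inv]
      exact h2.symm

end Groth.Agent.Elliptic
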