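import Groth.Agent.ZeroSchX.Basic
import Groth.Agent.InvX.Frame
import Groth.Agent.InvX.Tensor
import Groth.Agent.OmegaLib.IdealMod
import Groth.Agent.ModPairLib.Basic
import Groth.Agent.H23.TensorDesc
import Groth.Agent.H23.EndInv
import Groth.Agent.S8914
import Groth.Agent.InvX.GenLocusPull
import Groth.Agent.PicClLib.Basic

/-!
# Zero schemes of regular global sections and invertible ideals
-/

set_option autoImplicit false
set_option linter.style.haveILetI false
set_option backward.isDefEq.respectTransparency false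
set_option backward.isDefEq.respectTransparency.types false

universe u

open CategoryTheory CategoryTheory.Limits AlgebraicGeometry TopologicalSpace Opposite

noncomputable section

namespace Groth.Agent.Elliptic

open Groth.Agent InvX

variable {X : Scheme.{u}} {J : X.Modules}

/-- The zero scheme of a global section. -/
def Z (t : Γ(J, ⊤)) : X.IdealSheafData := PicF2.zeroScheme J (ofSect t)

theorem sv_ofSect (t : Γ(J, ⊤)) (U : X.Opens) :
    ZeroSchX.sv (ofSect t) U = AModX.res J (le_top : U ≤ ⊤) t :=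
  (Eq.trans (b := (1 : Γ(X, U)) • AModX.res J (le_top : U ≤ ⊤) t) rfl (one_smul _ _))

theorem ideal_Z (hJ : PicF.IsInvertible J) (t : Γ(J, ⊤)) (U : X.affineOpens) {e : Γ(J, U.1)}
    (he : IsFrame e) {g : Γ(X, U.1)} (hg : AModX.res J (le_top : U.1 ≤ ⊤) t = g • e) :
    (Z t).ideal U = Ideal.span {g} := by
  rw [Z, ZeroSchX.ideal_zeroScheme hJ, ZeroSchX.zeroIdealOn_eq_span _ he ((sv_ofSect t U.1).trans hg)]

/-- A regular section: locally a nonzerodivisor times a frame. -/
def IsRegSec (t : Γ(J, ⊤)) : Prop :=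
  ∀ x : X, ∃ U : X.affineOpens, x ∈ U.1 ∧ ∃ (e : Γ(J, U.1)) (g : Γ(X, U.1)),
    IsFrame e ∧ AModX.res J (le_top : U.1 ≤ ⊤) t = g • e ∧ g ∈ nonZeroDivisors Γ(X, U.1)

theorem IsRegSec.isEffCartier (hJ : PicF.IsInvertible J) {t : Γ(J, ⊤)} (ht : IsRegSec t) :
    BlowUp.IsEffCartierIdeal (Z t) := fun x => by
  obtain ⟨U, hx, e, g, he, hg, hreg⟩ := ht x
  exact ⟨U, hx, g, hreg, ideal_Z hJ t U he hg⟩

theorem exists_affine_frame (hJ : PicF.IsInvertible J) {V : X.Opens} {x : X} (hx : x ∈ V) :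
    ∃ U : X.affineOpens, x ∈ U.1 ∧ U.1 ≤ V ∧ ∃ e : Γ(J, U.1), IsFrame e := by
  obtain ⟨W, hxW, e, he⟩ := InvX.exists_frame hJ x
  obtain ⟨U, hU, hxU, hUW⟩ := exists_isAffineOpen_mem_and_subset (show x ∈ W ⊓ V from ⟨hxW, hx⟩)
  exact ⟨⟨U, hU⟩, hxU, fun y hy => (hUW hy).2, _, he.res (fun y hy => (hUW hy).1)⟩

theorem Z_ext_of_cover {I K : X.IdealSheafData}
    (h : ∀ x : X, ∃ U : X.affineOpens, x ∈ U.1 ∧ I.ideal U = K.ideal U) : I = K := by
  choose U hx hU using h
  exact Scheme.IdealSheafData.ext_of_iSup_eq_top U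
    (top_le_iff.1 fun x _ => Opens.mem_iSup.2 ⟨x, hx x⟩) hU

/-- The zero scheme of the inverse image of a section. -/
theorem Z_comap {Y : Scheme.{u}} (r : Y ⟶ X) (hJ : PicF.IsInvertible J) (t : Γ(J, ⊤)) :
    (Z t).comap r = Z (show Γ((Scheme.Modules.pullback r).obj J, ⊤) from pullElt r t) := by
  refine Z_ext_of_cover fun y => ?_
  obtain ⟨U, hyU, -, e, he⟩ := exists_affine_frame hJ (show r y ∈ (⊤ : X.Opens) from trivial)
  obtain ⟨g, hg⟩ := he.exists_coord le_rfl (AModX.res J (le_top : U.1 ≤ ⊤) t)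
  rw [AModX.res_self] at hg
  obtain ⟨V, hV, hyV, hVU⟩ := exists_isAffineOpen_mem_and_subset (show y ∈ r ⁻¹ᵁ U.1 from hyU)
  refine ⟨⟨V, hV⟩, hyV, ?_⟩
  rw [ModPairLib.ideal_comap (Z t) r U ⟨V, hV⟩ hVU, ideal_Z hJ t U he hg, Ideal.map_span,
    Set.image_singleton]
  refine (ideal_Z (PicClLib.isInvertible_pullback r hJ) _ ⟨V, hV⟩ ((isFrame_pullElt r he).res hVU) ?_).symm
  have h1 : AModX.res _ (le_top : r ⁻¹ᵁ U.1 ≤ ⊤)
      (show Γ((Scheme.Modules.pullback r).obj J, ⊤) from pullElt r t) = r.app U.1 g • pullElt r e := by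
    refine (res_pullElt r (le_top : U.1 ≤ ⊤) t).trans ?_
    rw [hg, H23.EndInv.pullElt_smul]
  have h2 := congrArg (AModX.res ((Scheme.Modules.pullback r).obj J) hVU) h1
  rw [AModX.res_res, AModX.res_smul] at h2
  exact h2

/-- Sections differing locally by units have the same zero scheme. -/
theorem Z_congr (hJ : PicF.IsInvertible J) {t t' : Γ(J, ⊤)}
    (h : ∀ x : X, ∃ W : X.Opens, x ∈ W ∧ ∃ c : Γ(X, W), IsUnit c ∧
      AModX.res J (le_top : W ≤ ⊤) t' = c • AModX.res J (le_top : W ≤ ⊤) t) : Z t = Z t' := by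
  refine Z_ext_of_cover fun x => ?_
  obtain ⟨W, hxW, c, hc, htc⟩ := h x
  obtain ⟨U, hxU, hUW, e, he⟩ := exists_affine_frame hJ hxW
  obtain ⟨g, hg⟩ := he.exists_coord le_rfl (AModX.res J (le_top : U.1 ≤ ⊤) t)
  rw [AModX.res_self] at hg
  refine ⟨U, hxU, ?_⟩
  have hg' : AModX.res J (le_top : U.1 ≤ ⊤) t' = (AModX.resR hUW c * g) • e := by
    have h1 := congrArg (AModX.res J hUW) htc
    rw [AModX.res_res, AModX.res_smul, AModX.res_res, hg, ← mul_smul] at h1
    exact h1
  rw [ideal_Z hJ t U he hg, ideal_Z hJ t' U he hg']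
  exact (Ideal.span_singleton_mul_left_unit (hc.map _) g).symm

theorem exists_section_of_iso {I : X.IdealSheafData} (hI : PicF.IsInvertible (ClSub.idealMod I))
    (hJ : PicF.IsInvertible J) (φ : CohB1.tensorMod (ClSub.idealMod I) J ≅ Coh.structureModule X) :
    ∃ t : Γ(J, ⊤), IsRegSec t ∧ Z t = I := by
  let β : H23.TensorDesc.Bilin (ClSub.idealMod I) J J :=
    { b := fun U i j => OmegaSh.idealSect I U i • j
      add_left := fun U m m' n => by rw [map_add, add_smul]
      smul_left := fun U r m n => by rw [OmegaLib.idealSect_smul, mul_smul]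
      add_right := fun U m n n' => smul_add _ _ _
      smul_right := fun U r m n => smul_comm _ _ _
      res := fun {U V} h m n =>
        (AModX.res_smul h (OmegaSh.idealSect I U m) n).trans
          (congrArg (· • AModX.res J h n) (OmegaLib.idealSect_map I h m).symm) }
  let t : Γ(J, ⊤) := (H23.TensorDesc.desc β).app ⊤ (φ.inv.app ⊤ (1 : Γ(X, ⊤)))
  have key : ∀ x : X, ∃ U : X.affineOpens, x ∈ U.1 ∧ ∃ (e : Γ(J, U.1)) (g : Γ(X, U.1)),
      IsFrame e ∧ AModX.res J (le_top : U.1 ≤ ⊤) t = g • e ∧ g ∈ nonZeroDivisors Γ(X, U.1) ∧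
        I.ideal U = Ideal.span {g} := by
    intro x
    obtain ⟨W, hxW, i, j, hi, hj⟩ := InvX.exists_frame₂ hI hJ x
    obtain ⟨U, hU, hxU, hUW⟩ := exists_isAffineOpen_mem_and_subset hxW
    let i' := AModX.res _ hUW i
    let j' := AModX.res _ hUW j
    have hi' : IsFrame i' := hi.res _
    have hj' : IsFrame j' := hj.res _
    let τ : Γ(CohB1.tensorMod (ClSub.idealMod I) J, U) :=
      AModX.res _ (le_top : U ≤ ⊤) (φ.inv.app ⊤ (1 : Γ(X, ⊤)))
    have hτ : IsFrame τ := (IsFrame.map_iso φ.symm (InvX.isFrame_one (X := X) ⊤)).res _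
    obtain ⟨r, hr⟩ := (InvX.isFrame_tmul hi' hj').exists_coord le_rfl τ
    rw [AModX.res_self] at hr
    have hru : IsUnit r := by
      obtain ⟨q, hq⟩ := hτ.exists_coord le_rfl (tmul i' j')
      rw [AModX.res_self] at hq
      refine IsUnit.of_mul_eq_one q ((InvX.isFrame_tmul hi' hj').coord_unique le_rfl ?_)
      rw [AModX.res_self, one_smul, mul_comm, mul_smul, ← hr, ← hq]
    let g := OmegaSh.idealSect I U i'
    have hIU : I.ideal ⟨U, hU⟩ = Ideal.span {g} := by
      refine le_antisymm (fun a ha => ?_) ?_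
      · obtain ⟨k, hk⟩ := OmegaLib.exists_of_mem I ⟨U, hU⟩ a ha
        obtain ⟨c, hc⟩ := hi'.exists_coord le_rfl k
        rw [AModX.res_self] at hc
        rw [← hk, hc, OmegaLib.idealSect_smul]
        exact Ideal.mul_mem_left _ c (Ideal.mem_span_singleton_self _)
      · rw [Ideal.span_singleton_le_iff_mem]
        exact OmegaLib.idealSect_mem I ⟨U, hU⟩ i'
    have hgreg : g ∈ nonZeroDivisors Γ(X, U) := by
      rw [mem_nonZeroDivisors_iff_right]
      intro c hc
      refine hi'.coord_unique le_rfl ?_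
      rw [AModX.res_self, zero_smul]
      refine OmegaLib.idealSect_injective I U ?_
      rw [OmegaLib.idealSect_smul, map_zero]
      exact hc
    refine ⟨⟨U, hU⟩, hxU, j', r * g, hj', ?_, mul_mem hru.mem_nonZeroDivisors hgreg,
      hIU.trans (Ideal.span_singleton_mul_left_unit hru g).symm⟩
    have h1 : AModX.res J (le_top : U ≤ ⊤) t = (H23.TensorDesc.desc β).app U τ :=
      (AModX.app_res _ _ _).symm
    rw [h1, hr, Scheme.Modules.Hom.app_smul, mul_smul]
    exact congrArg (r • ·) (H23.TensorDesc.desc_tmul β U i' j')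
  refine ⟨t, fun x => ?_, Z_ext_of_cover fun x => ?_⟩
  · obtain ⟨U, hx, e, g, he, hg, hreg, -⟩ := key x
    exact ⟨U, hx, e, g, he, hg, hreg⟩
  · obtain ⟨U, hx, e, g, he, hg, -, hI'⟩ := key x
    exact ⟨U, hx, (ideal_Z hJ t U he hg).trans hI'.symm⟩

theorem nonempty_iso_of_isRegSec (hJ : PicF.IsInvertible J) {t : Γ(J, ⊤)} (ht : IsRegSec t) :
    Nonempty (CohB1.tensorMod (ClSub.idealMod (Z t)) J ≅ Coh.structureModule X) := by
  classical
  choose U hxU e g he hg hreg using ht
  have hmem : ∀ x, g x ∈ (Z t).ideal (U x) := fun x => by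
    rw [ideal_Z hJ t (U x) (he x) (hg x)]; exact Ideal.mem_span_singleton_self _
  choose i hi using fun x => OmegaLib.exists_of_mem (Z t) (U x) (g x) (hmem x)
  have hIi : ∀ x, IsFrame (i x) := by
    intro x
    obtain ⟨W, hW, hiW⟩ : ∃ (W : ∀ y : (U x).1, X.affineOpens) (hW : ∀ y, y.1 ∈ (W y).1 ∧ (W y).1 ≤ (U x).1),
        ∀ y, IsFrame (AModX.res _ (hW y).2 (i x)) := by
      have H : ∀ y : (U x).1, ∃ W : X.affineOpens, ∃ h : y.1 ∈ W.1 ∧ W.1 ≤ (U x).1,
          IsFrame (AModX.res _ h.2 (i x)) := by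
        intro y
        obtain ⟨W, hyW, hWU, j, hj⟩ := exists_affine_frame
          ((S8914.result (Z t)).2 (IsRegSec.isEffCartier hJ fun z => ⟨U z, hxU z, e z, g z, he z, hg z, hreg z⟩)) y.2
        refine ⟨W, ⟨hyW, hWU⟩, ?_⟩
        obtain ⟨c, hc⟩ := hj.exists_coord le_rfl (AModX.res _ hWU (i x))
        rw [AModX.res_self] at hc
        have hgW : OmegaSh.idealSect (Z t) W.1 (AModX.res _ hWU (i x)) = AModX.resR hWU (g x) := by
          rw [← hi x]; exact OmegaLib.idealSect_map (Z t) hWU (i x)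
        have hj' : OmegaSh.idealSect (Z t) W.1 j ∈ Ideal.span {AModX.resR hWU (g x)} := by
          have := OmegaLib.idealSect_mem (Z t) W j
          rwa [← (Z t).map_ideal (U := W) (V := U x) hWU, ideal_Z hJ t (U x) (he x) (hg x), Ideal.map_span,
            Set.image_singleton] at this
        obtain ⟨d, hd⟩ := Ideal.mem_span_singleton'.1 hj'
        have hcd : d • AModX.res _ hWU (i x) = j := OmegaLib.idealSect_injective _ _ (by
          rw [OmegaLib.idealSect_smul, hgW, hd])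
        rw [hc]
        refine hj.isUnit_smul (IsUnit.of_mul_eq_one d (hj.coord_unique le_rfl ?_))
        rw [AModX.res_self, one_smul, mul_comm, mul_smul, ← hc, hcd]
      choose W hW hf using H
      exact ⟨W, hW, hf⟩
    refine InvX.isFrame_of_germ fun y hy => ?_
    have hb := (hiW ⟨y, hy⟩).germ_bijective (hW ⟨y, hy⟩).1
    rwa [InvX.germ_res'] at hb
  let τ : ∀ x, Γ(CohB1.tensorMod (ClSub.idealMod (Z t)) J, (U x).1) := fun x => tmul (i x) (e x)
  have hτ : ∀ x, IsFrame (τ x) := fun x => InvX.isFrame_tmul (hIi x) (he x)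
  have hcompat : ∀ (a b : X) (W : X.Opens) (ha : W ≤ (U a).1) (hb : W ≤ (U b).1),
      AModX.res _ ha (τ a) = AModX.res _ hb (τ b) := by
    intro a b W ha hb
    obtain ⟨u, hu⟩ := (he a).exists_coord ha (AModX.res J hb (e b))
    have h1 : AModX.resR ha (g a) = AModX.resR hb (g b) * u := by
      refine (he a).coord_unique ha ?_
      rw [mul_smul, ← hu, ← AModX.res_smul, ← AModX.res_smul, ← hg, ← hg, AModX.res_res, AModX.res_res]
    have h2 : AModX.res _ ha (i a) = u • AModX.res _ hb (i b) := by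
      refine OmegaLib.idealSect_injective _ _ ?_
      rw [OmegaLib.idealSect_smul]
      have e1 : OmegaSh.idealSect (Z t) W (AModX.res _ ha (i a)) = AModX.resR ha (g a) := by
        rw [← hi a]; exact OmegaLib.idealSect_map (Z t) ha (i a)
      have e2 : OmegaSh.idealSect (Z t) W (AModX.res _ hb (i b)) = AModX.resR hb (g b) := by
        rw [← hi b]; exact OmegaLib.idealSect_map (Z t) hb (i b)
      rw [e1, e2, h1, mul_comm]
    rw [InvX.res_tmul, InvX.res_tmul, h2, InvX.tmul_smul_left, ← InvX.tmul_smul_right, ← hu]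
  have hcov : ∀ x, ∃ a, x ∈ (U a).1 := fun x => ⟨x, hxU x⟩
  let o : ∀ x, Γ(Coh.structureModule X, (U x).1) := fun x => (1 : Γ(X, (U x).1))
  have ho : ∀ x, IsFrame (o x) := fun x => InvX.isFrame_one (X := X) _
  have hone : ∀ (a b : X) (W : X.Opens) (ha : W ≤ (U a).1) (hb : W ≤ (U b).1),
      AModX.res (Coh.structureModule X) ha (o a) = AModX.res (Coh.structureModule X) hb (o b) := fun a b W ha hb =>
    (map_one (AModX.resR ha)).trans (map_one (AModX.resR hb)).symm
  let F := InvX.ofFrames (U := fun x => (U x).1) (e := τ) (n := o) hcov hτ (fun a b W ha hb r hr => by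
    have h0 := (hτ a).coord_unique ha (r := r) (r' := 1)
      (by rw [← hr, one_smul]; exact (hcompat a b W ha hb).symm)
    rw [h0, one_smul]; exact (hone a b W ha hb).symm)
  let G := InvX.ofFrames (U := fun x => (U x).1) (e := o) (n := τ) hcov ho (fun a b W ha hb r hr => by
    have h0 := (ho a).coord_unique ha (r := r) (r' := 1)
      (by rw [← hr, one_smul]; exact (hone a b W ha hb).symm)
    rw [h0, one_smul]; exact (hcompat a b W ha hb).symm)
  refine ⟨⟨F, G, InvX.hom_ext_of_frames (fun x => (U x).1) hcov τ hτ fun a => ?_,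
    InvX.hom_ext_of_frames (fun x => (U x).1) hcov o ho fun a => ?_⟩⟩
  · show G.app _ (F.app _ (τ a)) = τ a
    rw [InvX.ofFrames_app, InvX.ofFrames_app]
  · show F.app _ (G.app _ (o a)) = o a
    rw [InvX.ofFrames_app, InvX.ofFrames_app]

end Groth.Agent.Elliptic
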